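import Mathlib
import Cfsg.Agent.KFacts.LargeO2
import Cfsg.Agent.FastGrp
import Cfsg.Agent.Prune
set_option linter.all false

section
prune_inst 0x7ff8effbabf8a9dfffff7fffa7bfcffdfbbd5ffff6dff9fbffe86bffdbff0327cbe5fbafeff4dafedef6e31490b87813ff7eeeffeb6bd87ffffd1ff45ffbee5fe5ffbd0d51febcb41ff46ffffbf077ee7f3fffffffffffffffffffffffffffffffbfffffffff

-- part: H6/ORE/Extra
section
prune_inst 0x440002200000000000000000000000000020040000008000000004100400004000000000010000004000000000000000000402000000a000000000000000002000000000000000000000000000000000000000000000000000000000000000000000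
set_option linter.all false
open scoped Cfsg.Agent.FastGrp

-- part: H6/ORE/Basic
section
/-!
# Commutators: elementary tools for Ore's conjecture (helper6, cluster ORE)

* `IsComm g` : `g = a * b * a⁻¹ * b⁻¹` for some `a b`;
* power trick: `b a b⁻¹ = a ^ k` makes `a ^ (1 - k)` a commutator (`IsComm.of_conj_pow`);
  elements of odd order which are real (`IsComm.of_real_odd`), squares of real elements;
* products of commuting pieces (`IsComm.mul`), twisted products (`IsComm.twist`).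
-/

set_option autoImplicit false

namespace Cfsg.Agent.H6.ORE

variable {G H : Type*} [Group G] [Group H]

/-- `g` is a commutator. -/
def IsComm (g : G) : Prop := ∃ a b : G, g = a * b * a⁻¹ * b⁻¹

theorem IsComm.of (a b : G) : IsComm (a * b * a⁻¹ * b⁻¹) := ⟨a, b, rfl⟩

theorem IsComm.one : IsComm (1 : G) := ⟨1, 1, by simp⟩

theorem IsComm.map (f : G →* H) {g : G} (h : IsComm g) : IsComm (f g) := by
  obtain ⟨a, b, rfl⟩ := h
  exact ⟨f a, f b, by simp only [_root_.map_mul, _root_.map_inv]⟩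

theorem IsComm.conj {g : G} (h : IsComm g) (x : G) : IsComm (x * g * x⁻¹) := by
  have := h.map (MulAut.conj x).toMonoidHom
  simpa using this

theorem IsComm.of_isConj {g h : G} (hc : IsConj g h) (hg : IsComm g) : IsComm h := by
  obtain ⟨x, rfl⟩ := isConj_iff.1 hc
  exact hg.conj x

theorem IsComm.inv {g : G} (h : IsComm g) : IsComm g⁻¹ := by
  obtain ⟨a, b, rfl⟩ := h
  exact ⟨b, a, by group⟩

theorem IsComm.of_mem {K : Subgroup G} {g : G} (hg : g ∈ K) (h : IsComm (⟨g, hg⟩ : K)) : IsComm g :=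
  h.map K.subtype

/-- **T7** product of two commuting pieces -/
theorem IsComm.mul {g h a b c d : G} (hg : g = a * b * a⁻¹ * b⁻¹) (hh : h = c * d * c⁻¹ * d⁻¹)
    (hac : Commute a c) (had : Commute a d) (hbc : Commute b c) (hbd : Commute b d) :
    IsComm (g * h) := by
  refine ⟨a * c, b * d, ?_⟩
  subst hg hh
  have e1 : a * c * (b * d) * (a * c)⁻¹ * (b * d)⁻¹
      = a * (c * b) * (d * c⁻¹ * a⁻¹ * d⁻¹) * b⁻¹ := by group
  have e2 : c * b = b * c := hbc.eq.symm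
  rw [e1, e2]
  have e3 : d * c⁻¹ * a⁻¹ * d⁻¹ = a⁻¹ * (d * c⁻¹ * d⁻¹) := by
    have h1 : Commute a⁻¹ (d * c⁻¹) := (had.inv_left).mul_right (hac.inv_left.inv_right)
    calc d * c⁻¹ * a⁻¹ * d⁻¹ = (a⁻¹ * (d * c⁻¹)) * d⁻¹ := by rw [h1.eq]
      _ = _ := by group
  rw [e3]
  have h2 : Commute c a⁻¹ := (hac.inv_left).symm
  have h3 : Commute b⁻¹ (c * (d * c⁻¹ * d⁻¹)) := by
    have h4 : Commute b⁻¹ c := hbc.inv_left
    have h5 : Commute b⁻¹ d := hbd.inv_left
    exact h4.mul_right ((h5.mul_right h4.inv_right).mul_right h5.inv_right)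
  calc a * b * a⁻¹ * b⁻¹ * (c * d * c⁻¹ * d⁻¹)
      = a * b * a⁻¹ * (b⁻¹ * (c * (d * c⁻¹ * d⁻¹))) := by group
    _ = a * b * a⁻¹ * ((c * (d * c⁻¹ * d⁻¹)) * b⁻¹) := by rw [h3.eq]
    _ = a * b * (a⁻¹ * c) * (d * c⁻¹ * d⁻¹) * b⁻¹ := by group
    _ = a * b * (c * a⁻¹) * (d * c⁻¹ * d⁻¹) * b⁻¹ := by rw [h2.eq]
    _ = a * (b * c) * (a⁻¹ * (d * c⁻¹ * d⁻¹)) * b⁻¹ := by group

/-- **T5** the power trick -/
theorem IsComm.of_conj_pow {a b : G} {k : ℤ} (h : b * a * b⁻¹ = a ^ k) : IsComm (a ^ (1 - k)) := by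
  refine ⟨a, b, ?_⟩
  have h1 : b * a⁻¹ * b⁻¹ = a ^ (-k) := by
    have : (b * a * b⁻¹)⁻¹ = b * a⁻¹ * b⁻¹ := by group
    rw [← this, h, zpow_neg]
  calc a ^ (1 - k) = a * a ^ (-k) := by rw [sub_eq_add_neg, zpow_add, zpow_one]
    _ = a * (b * a⁻¹ * b⁻¹) := by rw [h1]
    _ = _ := by group

/-- `b g b⁻¹ = g ^ k` with `k - 1` prime to the order of `g` -/
theorem IsComm.of_conj_coprime {g b : G} {k : ℤ} (h : b * g * b⁻¹ = g ^ k)
    (hk : IsCoprime (k - 1) (orderOf g : ℤ)) : IsComm g := by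
  obtain ⟨u, v, huv⟩ := hk
  have h1 : b * (g ^ (-u)) * b⁻¹ = (g ^ (-u)) ^ k := by
    have : b * (g ^ (-u)) * b⁻¹ = (b * g * b⁻¹) ^ (-u) := by
      have := map_zpow (MulAut.conj b) g (-u)
      simpa only [_root_.zpow_neg, _root_.conj_zpow, _root_.mul_inv_rev, _root_.inv_inv, _root_.MulAut.conj_apply] using this
    rw [this, h, ← zpow_mul, ← zpow_mul, mul_comm]
  have h2 := IsComm.of_conj_pow h1
  have h3 : (g ^ (-u)) ^ (1 - k) = g := by
    rw [← zpow_mul]
    have e : -u * (1 - k) = 1 - v * (orderOf g : ℤ) := by linarith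
    rw [e, zpow_sub, zpow_one, mul_comm v, zpow_mul, zpow_natCast, pow_orderOf_eq_one, one_zpow,
      inv_one, mul_one]
  rwa [h3] at h2

/-- an element of prime order which is conjugate to a power of itself different from itself is a
commutator -/
theorem IsComm.of_prime {g b : G} {k : ℕ} {p : ℕ} (hp : p.Prime) (hg : orderOf g = p)
    (h : b * g * b⁻¹ = g ^ k) (hne : b * g * b⁻¹ ≠ g) : IsComm g := by
  refine IsComm.of_conj_coprime (k := (k : ℤ)) (by rw [h, zpow_natCast]) ?_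
  rw [hg, Int.isCoprime_iff_gcd_eq_one, Int.gcd_comm]
  rw [← Int.isCoprime_iff_gcd_eq_one]
  have hpz : Prime (p : ℤ) := Nat.prime_iff_prime_int.1 hp
  refine (Prime.coprime_iff_not_dvd hpz).2 ?_
  intro hd
  apply hne
  rw [h]
  obtain ⟨m, hm⟩ := hd
  have : (k : ℤ) = 1 + p * m := by linarith only [hm]
  have e : g ^ k = g ^ ((k : ℤ)) := (zpow_natCast g k).symm
  rw [e, this, zpow_add, zpow_one, zpow_mul, zpow_natCast, ← hg, pow_orderOf_eq_one, one_zpow,
    mul_one]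

/-- **T9** twisted product: `s = h * (u h⁻¹ u⁻¹)`, `t = x * (u y) x⁻¹ (u y)⁻¹`, `h` commutes with
`x`, `t` and with `y`-conjugation data -/
theorem IsComm.twist {s t h u x y : G} (hs : s = h * (u * h⁻¹ * u⁻¹))
    (ht : t = x * (u * y) * x⁻¹ * (u * y)⁻¹) (hhx : Commute h x) (hhy : Commute h y)
    (hst : Commute (u * h⁻¹ * u⁻¹) x) : IsComm (s * t) := by
  refine ⟨h * x, u * y, ?_⟩
  subst hs ht
  have e1 : h * x * (u * y) * (h * x)⁻¹ * (u * y)⁻¹
      = h * x * (u * (y * (x⁻¹ * h⁻¹)) * (u * y)⁻¹) := by group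
  have e2 : y * (x⁻¹ * h⁻¹) = h⁻¹ * (y * x⁻¹) := by
    have : Commute h⁻¹ (y * x⁻¹) := (hhy.inv_left).mul_right (hhx.inv_left.inv_right)
    calc y * (x⁻¹ * h⁻¹) = (y * x⁻¹) * h⁻¹ := by group
      _ = _ := by rw [this.eq]
  rw [e1, e2]
  calc h * (u * h⁻¹ * u⁻¹) * (x * (u * y) * x⁻¹ * (u * y)⁻¹)
      = h * ((u * h⁻¹ * u⁻¹) * x) * (u * y * x⁻¹ * (u * y)⁻¹) := by group
    _ = h * (x * (u * h⁻¹ * u⁻¹)) * (u * y * x⁻¹ * (u * y)⁻¹) := by rw [hst.eq]
    _ = h * x * (u * (h⁻¹ * (y * x⁻¹)) * (u * y)⁻¹) := by group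

end Cfsg.Agent.H6.ORE
end

-- part: H6/ORE/Coset
section
/-!
# The coset lemma, abelian step (helper6, cluster ORE)

`FP A a b`: `A = (1 - b) A + (1 - a) A` (multiplicatively), i.e. `A = [A, ⟨a, b⟩]`, i.e. `⟨a, b⟩` has
no nonzero fixed vector in the dual of `A`.

* `exists_comm_of_FP` : `A` abelian normal, `FP A a b`, `c ∈ A [a, b]`: `c = [q₁ a, q₂ b]`, `qᵢ ∈ A`;
* `lift_step` : the same along a surjection with abelian kernel.
* `FP.of_left`, `FP.of_right` : if `a` (or `b`) has no fixed point on `A`.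
* `FP.congr` : `FP` only depends on the action.
-/

set_option autoImplicit false

namespace Cfsg.Agent.H6.ORE

variable {G H : Type*} [Group G] [Group H]

/-- `A = [A, ⟨a, b⟩]` for an abelian normal subgroup `A`. -/
def FP (A : Subgroup H) (a b : H) : Prop :=
  ∀ w ∈ A, ∃ u ∈ A, ∃ v ∈ A, w = u * (b * u * b⁻¹)⁻¹ * (v * (a * v * a⁻¹)⁻¹)

theorem aux_comm {B : Type*} [CommGroup B] (x1 x2 x3 x4 x5 x6 : B) :
    x1 * x2⁻¹ * (x3 * x4⁻¹) = x1 * (x3 * x4⁻¹) * x5⁻¹ * (x5 * x6⁻¹ * x2⁻¹) * x6 := by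
  have : Additive.ofMul (x1 * x2⁻¹ * (x3 * x4⁻¹))
      = Additive.ofMul (x1 * (x3 * x4⁻¹) * x5⁻¹ * (x5 * x6⁻¹ * x2⁻¹) * x6) := by
    simp only [ofMul_mul, ofMul_inv]
    abel
  exact this

theorem exists_comm_of_FP {A : Subgroup H} (hn : A.Normal) (hA : ∀ x ∈ A, ∀ y ∈ A, x * y = y * x)
    {a b c : H} (hfp : FP A a b) (hc : c * (a * b * a⁻¹ * b⁻¹)⁻¹ ∈ A) :
    ∃ q₁ ∈ A, ∃ q₂ ∈ A, c = (q₁ * a) * (q₂ * b) * (q₁ * a)⁻¹ * (q₂ * b)⁻¹ := by
  have : A.Normal := hn
  let _ : CommGroup A := { (inferInstance : Group A) with mul_comm := fun x y => Subtype.ext (hA x x.2 y y.2) }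
  let φ : H →* MulAut A := MulAut.conjNormal
  have hφ : ∀ (h : H) (x : A), ((φ h x : A) : H) = h * x * h⁻¹ := fun h x => MulAut.conjNormal_apply h x
  set w : A := ⟨c * (a * b * a⁻¹ * b⁻¹)⁻¹, hc⟩ with hw
  obtain ⟨u, hu, v, hv, huv⟩ := hfp (φ a⁻¹ w : A) (φ a⁻¹ w : A).2
  set U : A := ⟨u, hu⟩
  set V : A := ⟨v, hv⟩
  have huv' : φ a⁻¹ w = U * (φ b U)⁻¹ * (V * (φ a V)⁻¹) := by
    apply Subtype.ext
    simp only [Subgroup.coe_mul, Subgroup.coe_inv, hφ]
    rw [← huv, hφ]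
  have hφm : ∀ (g h : H) (x : A), φ g (φ h x) = φ (g * h) x := fun g h x => by
    rw [map_mul]; rfl
  let Y : A := V * (φ a V)⁻¹
  let P : A := U * Y
  let q₁ : A := φ a P
  let q₂ : A := φ b (φ a V⁻¹)
  have key : w = q₁ * φ a q₂ * (φ (a * b * a⁻¹) q₁)⁻¹ * (φ (a * b * a⁻¹ * b⁻¹) q₂)⁻¹ := by
    have e1 : φ (a * b * a⁻¹) q₁ = φ a (φ b P) := by
      show φ (a * b * a⁻¹) (φ a P) = _
      rw [hφm, hφm]
      congr 2
      group
    have e2 : φ (a * b * a⁻¹ * b⁻¹) q₂ = φ a (φ b V⁻¹) := by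
      show φ (a * b * a⁻¹ * b⁻¹) (φ b (φ a V⁻¹)) = _
      rw [hφm, hφm, hφm]
      congr 2
      group
    have e3 : w = φ a (φ a⁻¹ w) := by
      rw [hφm, mul_inv_cancel, map_one]; rfl
    rw [e1, e2, e3, huv']
    show φ a (U * (φ b U)⁻¹ * (V * (φ a V)⁻¹)) = φ a P * φ a (φ b (φ a V⁻¹)) * (φ a (φ b P))⁻¹
      * (φ a (φ b V⁻¹))⁻¹
    have e4 : φ a P * φ a (φ b (φ a V⁻¹)) * (φ a (φ b P))⁻¹ * (φ a (φ b V⁻¹))⁻¹
        = φ a (P * φ b (φ a V⁻¹) * (φ b P)⁻¹ * (φ b V⁻¹)⁻¹) := by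
      simp only [map_mul, map_inv]
    rw [e4]
    congr 1
    show _ = U * (V * (φ a V)⁻¹) * φ b (φ a V⁻¹) * (φ b (U * (V * (φ a V)⁻¹)))⁻¹ * (φ b V⁻¹)⁻¹
    simp only [map_mul, map_inv, mul_inv_rev, inv_inv]
    exact aux_comm _ _ _ _ _ _
  refine ⟨q₁, q₁.2, q₂, q₂.2, ?_⟩
  have h1 : (w : H) = (q₁ : H) * (a * q₂ * a⁻¹) * ((a * b * a⁻¹) * q₁ * (a * b * a⁻¹)⁻¹)⁻¹
      * ((a * b * a⁻¹ * b⁻¹) * q₂ * (a * b * a⁻¹ * b⁻¹)⁻¹)⁻¹ := by
    have := congrArg (fun x : A => (x : H)) key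
    simpa only [Subgroup.coe_mul, Subgroup.coe_inv, hφ] using this
  have h2 : c = (w : H) * (a * b * a⁻¹ * b⁻¹) := by
    rw [hw]; group
  rw [h2, h1]
  group

theorem FP.mono_action {A : Subgroup H} {a b a' b' : H} (h : FP A a b)
    (ha : ∀ x ∈ A, a * x * a⁻¹ = a' * x * a'⁻¹) (hb : ∀ x ∈ A, b * x * b⁻¹ = b' * x * b'⁻¹) :
    FP A a' b' := by
  intro w hw
  obtain ⟨u, hu, v, hv, e⟩ := h w hw
  exact ⟨u, hu, v, hv, by rw [← ha v hv, ← hb u hu]; exact e⟩

/-- **the abelian coset lemma along a surjection** -/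
theorem lift_step (π : G →* H) (hcomm : ∀ x ∈ π.ker, ∀ y ∈ π.ker, x * y = y * x) {a b : G}
    (hfp : FP π.ker a b) {c : G} (hc : π c = π a * π b * (π a)⁻¹ * (π b)⁻¹) :
    ∃ a' b' : G, π a' = π a ∧ π b' = π b ∧ c = a' * b' * a'⁻¹ * b'⁻¹ := by
  have h1 : c * (a * b * a⁻¹ * b⁻¹)⁻¹ ∈ π.ker := by
    rw [MonoidHom.mem_ker, map_mul, hc, map_inv]
    simp only [_root_.map_mul, _root_.map_inv, _root_.mul_inv_rev, _root_.inv_inv, _root_.mul_inv_mul_mul_cancel, _root_.mul_mul_inv_mul_cancel, _root_.mul_inv_cancel]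
  obtain ⟨q₁, h₁, q₂, h₂, e⟩ := exists_comm_of_FP inferInstance hcomm hfp h1
  refine ⟨q₁ * a, q₂ * b, ?_, ?_, e⟩
  · rw [map_mul, (MonoidHom.mem_ker).1 h₁, one_mul]
  · rw [map_mul, (MonoidHom.mem_ker).1 h₂, one_mul]

/-- `a` without fixed point on the finite abelian normal subgroup `A` -/
theorem FP.of_left {A : Subgroup H} (hn : A.Normal) [Finite A] {a : H} (b : H)
    (hfix : ∀ x ∈ A, a * x * a⁻¹ = x → x = 1) : FP A a b := by
  have : A.Normal := hn
  have hmem : ∀ x : A, (x : H) * (a * x * a⁻¹)⁻¹ ∈ A := fun x =>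
    A.mul_mem x.2 (A.inv_mem (hn.conj_mem x x.2 a))
  let f : A → A := fun x => ⟨(x : H) * (a * x * a⁻¹)⁻¹, hmem x⟩
  have hinj : Function.Injective f := by
    intro x y hxy
    have h1 : (x : H) * (a * x * a⁻¹)⁻¹ = (y : H) * (a * y * a⁻¹)⁻¹ := congrArg Subtype.val hxy
    have h2 : (y : H)⁻¹ * x = (a * y * a⁻¹)⁻¹ * (a * x * a⁻¹) := by
      have h3 : (y : H)⁻¹ * ((x : H) * (a * x * a⁻¹)⁻¹) * (a * x * a⁻¹)
          = (y : H)⁻¹ * ((y : H) * (a * y * a⁻¹)⁻¹) * (a * x * a⁻¹) := by rw [h1]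
      calc (y : H)⁻¹ * x = (y : H)⁻¹ * ((x : H) * (a * x * a⁻¹)⁻¹) * (a * x * a⁻¹) := by group
        _ = (y : H)⁻¹ * ((y : H) * (a * y * a⁻¹)⁻¹) * (a * x * a⁻¹) := h3
        _ = (a * (y:H) * a⁻¹)⁻¹ * (a * x * a⁻¹) := by group
    have h4 := hfix ((y : H)⁻¹ * x) (A.mul_mem (A.inv_mem y.2) x.2)
      ((show a * ((y : H)⁻¹ * x) * a⁻¹ = (a * y * a⁻¹)⁻¹ * (a * x * a⁻¹) by group).trans h2.symm)
    have h5 : (x : H) = y := by
      have := congrArg (fun t => (y : H) * t) h4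
      simpa using this
    exact Subtype.ext h5
  have hsurj : Function.Surjective f := Finite.surjective_of_injective hinj
  intro w hw
  obtain ⟨v, hv⟩ := hsurj ⟨w, hw⟩
  refine ⟨1, A.one_mem, v, v.2, ?_⟩
  have := congrArg Subtype.val hv
  simp only [f] at this
  rw [← this]
  simp

/-- `b` without fixed point on the finite abelian normal subgroup `A` -/
theorem FP.of_right {A : Subgroup H} (hn : A.Normal) [Finite A]
    (hA : ∀ x ∈ A, ∀ y ∈ A, x * y = y * x) (a : H) {b : H}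
    (hfix : ∀ x ∈ A, b * x * b⁻¹ = x → x = 1) : FP A a b := by
  intro w hw
  obtain ⟨u, hu, v, hv, e⟩ := FP.of_left hn (a := b) b hfix w hw
  refine ⟨u * v, A.mul_mem hu hv, 1, A.one_mem, ?_⟩
  have hm : ∀ x ∈ A, b * x * b⁻¹ ∈ A := fun x hx => hn.conj_mem x hx b
  have e1 : (u * v) * (b * (u * v) * b⁻¹)⁻¹ = u * (b * u * b⁻¹)⁻¹ * (v * (b * v * b⁻¹)⁻¹) := by
    have e2 : v * ((b * v * b⁻¹)⁻¹ * (b * u * b⁻¹)⁻¹) = ((b * u * b⁻¹)⁻¹) * (v * (b * v * b⁻¹)⁻¹) := by
      have c1 := hA v hv ((b * u * b⁻¹)⁻¹) (A.inv_mem (hm u hu))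
      have c2 := hA ((b * v * b⁻¹)⁻¹) (A.inv_mem (hm v hv)) ((b * u * b⁻¹)⁻¹) (A.inv_mem (hm u hu))
      rw [c2, ← mul_assoc, c1, mul_assoc]
    calc (u * v) * (b * (u * v) * b⁻¹)⁻¹ = u * (v * ((b * v * b⁻¹)⁻¹ * (b * u * b⁻¹)⁻¹)) := by group
      _ = _ := by rw [e2]; group
  rw [e1, ← e]
  simp

end Cfsg.Agent.H6.ORE
end

-- part: H6/ORE/Extra
section
/-!
# The extraspecial coset lemma (helper6, cluster ORE)

`Q ⊴ H` finite, `z ∈ Q` central involution of `H`, `Q/⟨z⟩` elementary abelian and the commutator form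
non-degenerate.  If `V = Q/⟨z⟩` satisfies `V = [V, ⟨a, b⟩]` and `c ∈ Q [a, b]` acts non-trivially on
`V`, then `c = [q₁ a, q₂ b]` with `qᵢ ∈ Q`.  Elementary proof (no characters).
-/

set_option autoImplicit false

namespace Cfsg.Agent.H6.ORE

universe u

open Module

/-- the linear algebra behind the extraspecial coset lemma -/
theorem rank_lemma {V : Type*} [AddCommGroup V] [Module (ZMod 2) V] [FiniteDimensional (ZMod 2) V]
    (ω : LinearMap.BilinForm (ZMod 2) V) (hnd : ω.Nondegenerate) (hs : ∀ x y, ω x y = ω y x)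
    (α β β' γ : V ≃ₗ[ZMod 2] V) (hα : ∀ x y, ω (α x) (α y) = ω x y)
    (hβ' : ∀ x y, ω (β' x) (β' y) = ω x y) (hγ : ∀ x y, ω (γ x) (γ y) = ω x y)
    (e1 : ∀ x, β' (α x) = α (β x)) (e2 : ∀ x, γ (β x) = β' x)
    (hφ : ∀ w, ∃ r₁ r₂, r₁ + β' r₁ + (α r₂ + γ r₂) = w)
    (hB : ∀ q₁ q₂ r₁ r₂, q₁ + β' q₁ + (α q₂ + γ q₂) = 0 → r₁ + β' r₁ + (α r₂ + γ r₂) = 0 →
      ω q₁ (α r₂) + ω (β' r₁) (γ q₂) = 0) : ∀ x, γ x = x := by
  classical
  have two : ∀ v : V, v + v = 0 := by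
    intro v
    have : (2 : ZMod 2) • v = 0 := by
      rw [show (2 : ZMod 2) = 0 from rfl, zero_smul]
    rwa [two_smul] at this
  have cancel : ∀ {u v : V}, u + v = 0 → u = v := by
    intro u v h
    have := congrArg (fun t => t + v) h
    simpa [add_assoc, two] using this
  let φ : V × V →ₗ[ZMod 2] V :=
    (LinearMap.id + β'.toLinearMap).comp (LinearMap.fst _ V V)
      + (α.toLinearMap + γ.toLinearMap).comp (LinearMap.snd _ V V)
  have hφa : ∀ r : V × V, φ r = r.1 + β' r.1 + (α r.2 + γ r.2) := fun r => rfl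
  have hsurj : Function.Surjective φ := by
    intro w
    obtain ⟨r₁, r₂, h⟩ := hφ w
    exact ⟨(r₁, r₂), h⟩
  let ψ : V →ₗ[ZMod 2] V × V :=
    LinearMap.prod (LinearMap.id + α.toLinearMap) (LinearMap.id + β.toLinearMap)
  have hψa : ∀ x, ψ x = (x + α x, x + β x) := fun x => rfl
  -- key inclusion
  have key : ∀ q ∈ LinearMap.ker φ, ∃ x, γ x = x ∧ ψ x = q := by
    intro q hq
    let ℓ : V × V →ₗ[ZMod 2] ZMod 2 :=
      ((ω q.1).comp α.toLinearMap).comp (LinearMap.snd _ V V)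
        + ((ω (γ q.2)).comp β'.toLinearMap).comp (LinearMap.fst _ V V)
    have hℓa : ∀ r : V × V, ℓ r = ω q.1 (α r.2) + ω (γ q.2) (β' r.1) := fun r => rfl
    have hℓ : ∀ r ∈ LinearMap.ker φ, ℓ r = 0 := by
      intro r hr
      rw [hℓa, hs (γ q.2)]
      exact hB q.1 q.2 r.1 r.2 (by simpa only [hφa, _root_.LinearMap.mem_ker] using hq) (by simpa only [hφa, _root_.LinearMap.mem_ker] using hr)
    have h1 : ℓ ∈ LinearMap.range φ.dualMap := by
      rw [LinearMap.range_dualMap_eq_dualAnnihilator_ker, Submodule.mem_dualAnnihilator]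
      exact hℓ
    obtain ⟨lam, hlam⟩ := h1
    obtain ⟨x, hx⟩ : ∃ x, ∀ v, ω x v = lam v := by
      refine ⟨(ω.toDual hnd).symm lam, fun v => ?_⟩
      exact LinearMap.BilinForm.apply_toDual_symm_apply (B := ω) (hB := hnd) lam v
    have h2 : ∀ r : V × V, ω q.1 (α r.2) + ω (γ q.2) (β' r.1) = ω x (φ r) := by
      intro r
      rw [hx, ← hℓa, ← hlam]
      rfl
    have nd : ∀ u v : V, (∀ w, ω u w = ω v w) → u = v := by
      intro u v h
      have h3 : ∀ w, ω (u - v) w = 0 := by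
        intro w
        rw [map_sub, LinearMap.sub_apply, h w, sub_self]
      exact sub_eq_zero.1 (hnd.1 _ h3)
    -- q₁
    have hq1 : q.1 = x + α (γ.symm x) := by
      apply nd
      intro w
      obtain ⟨w', rfl⟩ := α.surjective w
      have := h2 (0, w')
      simp only [hφa, map_zero, add_zero, zero_add] at this
      rw [this]
      simp only [map_add, LinearMap.add_apply]
      congr 1
      rw [hα]
      have h6 := hγ (γ.symm x) w'
      rw [LinearEquiv.apply_symm_apply] at h6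
      exact h6
    have hq2 : γ q.2 = x + β' x := by
      apply nd
      intro w
      obtain ⟨w', rfl⟩ := β'.surjective w
      have := h2 (w', 0)
      simp only [hφa, map_zero, add_zero, zero_add] at this
      rw [this]
      simp only [map_add, LinearMap.add_apply]
      rw [hβ', add_comm]
    have hq2' : q.2 = γ.symm x + β x := by
      apply γ.injective
      rw [hq2, map_add, LinearEquiv.apply_symm_apply, e2]
    have hq0 : q.1 + β' q.1 + (α q.2 + γ q.2) = 0 := by simpa only [hφa, _root_.LinearMap.mem_ker] using hq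
    have hfix : γ.symm x = x := by
      rw [hq2, hq2', hq1] at hq0
      simp only [map_add] at hq0
      rw [e1] at hq0
      have h5 : α (β (γ.symm x)) + α (β x) = 0 := by
        have e : x + α (γ.symm x) + (β' x + α (β (γ.symm x))) + (α (γ.symm x) + α (β x) + (x + β' x))
            = (x + x) + (α (γ.symm x) + α (γ.symm x)) + (β' x + β' x)
              + (α (β (γ.symm x)) + α (β x)) := by abel
        rw [e] at hq0
        simpa only [two, zero_add] using hq0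
      exact β.injective (α.injective (cancel h5))
    have hfix' : γ x = x := by
      conv_lhs => rw [← hfix]
      exact LinearEquiv.apply_symm_apply γ x
    refine ⟨x, hfix', ?_⟩
    rw [hψa, Prod.ext_iff]
    exact ⟨by rw [hq1, hfix], by rw [hq2', hfix]⟩
  -- dimension count
  let F : Submodule (ZMod 2) V := LinearMap.ker (γ.toLinearMap - LinearMap.id)
  have hF : ∀ x, x ∈ F ↔ γ x = x := by
    intro x
    rw [LinearMap.mem_ker]
    simp [sub_eq_zero]
  have hle : LinearMap.ker φ ≤ F.map ψ := by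
    intro q hq
    obtain ⟨x, hx, e⟩ := key q hq
    exact ⟨x, (hF x).2 hx, e⟩
  have h1 : finrank (ZMod 2) (LinearMap.ker φ) ≤ finrank (ZMod 2) F :=
    (Submodule.finrank_mono hle).trans (Submodule.finrank_map_le ψ F)
  have h2 := LinearMap.finrank_range_add_finrank_ker φ
  rw [LinearMap.range_eq_top.2 hsurj, finrank_top, Module.finrank_prod] at h2
  have h3 : finrank (ZMod 2) V ≤ finrank (ZMod 2) F := by omega
  have h4 : F = ⊤ := Submodule.eq_top_of_finrank_eq (le_antisymm (Submodule.finrank_le F) h3)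
  intro x
  exact (hF x).1 (h4 ▸ Submodule.mem_top)

/-- `Q` is a normal subgroup "extraspecial" with centre `⟨z⟩` of order two, `z` central in `H` -/
structure ES {H : Type*} [Group H] (Q : Subgroup H) (z : H) : Prop where
  normal : Q.Normal
  mem : z ∈ Q
  ne : z ≠ 1
  sq : z * z = 1
  central : ∀ h : H, h * z = z * h
  comm : ∀ x ∈ Q, ∀ y ∈ Q, x * y = y * x ∨ x * y = y * x * z
  pow : ∀ x ∈ Q, x * x = 1 ∨ x * x = z
  nd : ∀ x ∈ Q, (∀ y ∈ Q, x * y = y * x) → x = 1 ∨ x = z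

/-- `V = [V, ⟨a, b⟩]` for `V = Q/⟨z⟩` -/
def FPz {H : Type*} [Group H] (Q : Subgroup H) (z : H) (a b : H) : Prop :=
  ∀ w ∈ Q, ∃ u ∈ Q, ∃ v ∈ Q, ∃ ζ : H, (ζ = 1 ∨ ζ = z) ∧
    w = u * (b * u * b⁻¹)⁻¹ * (v * (a * v * a⁻¹)⁻¹) * ζ

variable {H : Type u} [Group H] {Q : Subgroup H} {z : H}

theorem ES.mem_zpowers (h : ES Q z) {x : H} : x ∈ Subgroup.zpowers z ↔ x = 1 ∨ x = z := by
  constructor
  · rintro ⟨n, rfl⟩
    have h2 : z ^ (2 : ℤ) = 1 := by
      rw [zpow_two]; exact h.sq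
    rcases Int.even_or_odd' n with ⟨k, hk | hk⟩
    · left
      show z ^ n = 1
      rw [hk, zpow_mul, h2, one_zpow]
    · right
      show z ^ n = z
      rw [hk, zpow_add, zpow_mul, h2, one_zpow, one_mul, zpow_one]
  · rintro (rfl | rfl)
    · exact Subgroup.one_mem _
    · exact Subgroup.mem_zpowers _

theorem ES.normal_zpowers (h : ES Q z) : (Subgroup.zpowers z).Normal := by
  refine ⟨fun x hx g => ?_⟩
  rw [h.mem_zpowers] at hx ⊢
  rcases hx with rfl | rfl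
  · left; simp
  · right; rw [h.central]; simp

/-- the coset lemma modulo `z` -/
theorem ES.step_mod (h : ES Q z) {a b c : H} (hfp : FPz Q z a b)
    (hc : c * (a * b * a⁻¹ * b⁻¹)⁻¹ ∈ Q) :
    ∃ q₁ ∈ Q, ∃ q₂ ∈ Q, ∃ ζ : H, (ζ = 1 ∨ ζ = z) ∧
      c * ζ = (q₁ * a) * (q₂ * b) * (q₁ * a)⁻¹ * (q₂ * b)⁻¹ := by
  have hn := h.normal
  have hz := h.normal_zpowers
  let π : H →* H ⧸ Subgroup.zpowers z := QuotientGroup.mk' _
  have hπs : Function.Surjective π := QuotientGroup.mk'_surjective _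
  have hπk : ∀ x, π x = 1 ↔ (x = 1 ∨ x = z) := by
    intro x
    rw [← h.mem_zpowers]
    exact QuotientGroup.eq_one_iff x
  have hπz : π z = 1 := (hπk z).2 (Or.inr rfl)
  have hπe : ∀ x y, π x = π y → ∃ ζ : H, (ζ = 1 ∨ ζ = z) ∧ x * ζ = y := by
    intro x y hxy
    refine ⟨x⁻¹ * y, ?_, by group⟩
    rw [← hπk, map_mul, map_inv, hxy, inv_mul_cancel]
  have hAn : (Q.map π).Normal := hn.map π hπs
  have hAc : ∀ x ∈ Q.map π, ∀ y ∈ Q.map π, x * y = y * x := by
    rintro _ ⟨x, hx, rfl⟩ _ ⟨y, hy, rfl⟩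
    rw [← map_mul, ← map_mul]
    rcases h.comm x hx y hy with e | e
    · rw [e]
    · rw [e, map_mul π (y * x) z, hπz, mul_one]
  have hAf : FP (Q.map π) (π a) (π b) := by
    rintro _ ⟨w, hw, rfl⟩
    obtain ⟨u, hu, v, hv, ζ, hζ, e⟩ := hfp w hw
    refine ⟨π u, ⟨u, hu, rfl⟩, π v, ⟨v, hv, rfl⟩, ?_⟩
    rw [e, map_mul, (hπk ζ).2 hζ, mul_one]
    simp only [map_mul, map_inv]
  have hcA : π c * (π a * π b * (π a)⁻¹ * (π b)⁻¹)⁻¹ ∈ Q.map π := by
    refine ⟨_, hc, ?_⟩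
    simp only [map_mul, map_inv]
  obtain ⟨_, ⟨q₁, h₁, rfl⟩, _, ⟨q₂, h₂, rfl⟩, e⟩ := exists_comm_of_FP hAn hAc hAf hcA
  have e' : π c = π ((q₁ * a) * (q₂ * b) * (q₁ * a)⁻¹ * (q₂ * b)⁻¹) := by
    rw [e]; simp only [map_mul, map_inv]
  obtain ⟨ζ, hζ, e''⟩ := hπe _ _ e'
  exact ⟨q₁, h₁, q₂, h₂, ζ, hζ, e''⟩

theorem ES.conj_mem (h : ES Q z) {x : H} (hx : x ∈ Q) (g : H) : g * x * g⁻¹ ∈ Q :=
  h.normal.conj_mem x hx g

/-- elements of `Q` act trivially modulo `z` -/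
theorem ES.conj_eq (h : ES Q z) {p x : H} (hp : p ∈ Q) (hx : x ∈ Q) :
    ∃ ζ : H, (ζ = 1 ∨ ζ = z) ∧ p * x * p⁻¹ = x * ζ := by
  rcases h.comm p hp x hx with e | e
  · exact ⟨1, Or.inl rfl, by rw [e]; group⟩
  · refine ⟨z, Or.inr rfl, ?_⟩
    rw [e, mul_assoc (x * p), ← h.central]; group

theorem ES.zz (h : ES Q z) {ζ ξ : H} (h1 : ζ = 1 ∨ ζ = z) (h2 : ξ = 1 ∨ ξ = z) :
    ζ * ξ = 1 ∨ ζ * ξ = z := by
  rcases h1 with rfl | rfl <;> rcases h2 with rfl | rfl
  · simp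
  · simp
  · simp
  · left; exact h.sq

theorem ES.zc (h : ES Q z) {ζ : H} (h1 : ζ = 1 ∨ ζ = z) (g : H) : g * ζ = ζ * g := by
  rcases h1 with rfl | rfl
  · simp
  · exact h.central g

theorem ES.zi (h : ES Q z) {ζ : H} (h1 : ζ = 1 ∨ ζ = z) : ζ⁻¹ = ζ := by
  rcases h1 with rfl | rfl
  · simp
  · exact inv_eq_of_mul_eq_one_right h.sq

theorem FPz.mul_left (h : ES Q z) {a b p₁ p₂ : H} (hfp : FPz Q z a b) (h₁ : p₁ ∈ Q) (h₂ : p₂ ∈ Q) :
    FPz Q z (p₁ * a) (p₂ * b) := by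
  intro w hw
  obtain ⟨u, hu, v, hv, ζ, hζ, e⟩ := hfp w hw
  obtain ⟨ξ, hξ, e₁⟩ := h.conj_eq h₂ (h.conj_mem hu b)
  obtain ⟨η, hη, e₂⟩ := h.conj_eq h₁ (h.conj_mem hv a)
  refine ⟨u, hu, v, hv, ξ * η * ζ, h.zz (h.zz hξ hη) hζ, ?_⟩
  have e₁' : p₂ * b * u * (p₂ * b)⁻¹ = b * u * b⁻¹ * ξ := by rw [← e₁]; group
  have e₂' : p₁ * a * v * (p₁ * a)⁻¹ = a * v * a⁻¹ * η := by rw [← e₂]; group
  rw [e₁', e₂', mul_inv_rev (b * u * b⁻¹) ξ, mul_inv_rev (a * v * a⁻¹) η, h.zi hξ, h.zi hη, e]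
  have c₁ := h.zc hξ
  have c₂ := h.zc hη
  calc u * (b * u * b⁻¹)⁻¹ * (v * (a * v * a⁻¹)⁻¹) * ζ
      = u * (b * u * b⁻¹)⁻¹ * (v * (a * v * a⁻¹)⁻¹) * (ξ * ξ⁻¹) * (η * η⁻¹) * ζ := by group
    _ = u * (b * u * b⁻¹)⁻¹ * (v * (a * v * a⁻¹)⁻¹) * (ξ * ξ) * (η * η) * ζ := by
        rw [h.zi hξ, h.zi hη]
    _ = u * (b * u * b⁻¹)⁻¹ * ((v * (a * v * a⁻¹)⁻¹) * ξ) * (ξ * η) * (η * ζ) := by group
    _ = u * (b * u * b⁻¹)⁻¹ * (ξ * (v * (a * v * a⁻¹)⁻¹)) * (η * ξ) * (η * ζ) := by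
        rw [c₁ (v * (a * v * a⁻¹)⁻¹), c₁ η]
    _ = u * ((b * u * b⁻¹)⁻¹ * ξ) * (v * ((a * v * a⁻¹)⁻¹ * η)) * (ξ * η * ζ) := by group
    _ = u * (ξ * (b * u * b⁻¹)⁻¹) * (v * (η * (a * v * a⁻¹)⁻¹)) * (ξ * η * ζ) := by
        rw [c₁ (b * u * b⁻¹)⁻¹, c₂ (a * v * a⁻¹)⁻¹]

/-- a packaging of `V = Q/⟨z⟩` with its form and the action of `H` -/
structure VData (Q : Subgroup H) (z : H) : Type (u + 1) where
  V : Type u
  [acg : AddCommGroup V]
  [mod : Module (ZMod 2) V]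
  [fin : Finite V]
  cls : Q → V
  surj : Function.Surjective cls
  cls_mul : ∀ x y, cls (x * y) = cls x + cls y
  cls_eq : ∀ x y : Q, cls x = cls y ↔ ((y : H) = x ∨ (y : H) = x * z)
  ω : LinearMap.BilinForm (ZMod 2) V
  ω_cls : ∀ x y : Q, ω (cls x) (cls y) = 0 ↔ (x : H) * y = y * x
  L : H → V ≃ₗ[ZMod 2] V
  L_cls : ∀ (g : H) (x y : Q), (y : H) = g * x * g⁻¹ → L g (cls x) = cls y

theorem ES.exists_vdata (h : ES Q z) [Finite Q] : Nonempty (VData Q z) := by
  classical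
  have hn := h.normal
  let N : Subgroup Q := (Subgroup.zpowers z).subgroupOf Q
  have hN : ∀ x : Q, x ∈ N ↔ ((x : H) = 1 ∨ (x : H) = z) := by
    intro x
    rw [Subgroup.mem_subgroupOf, h.mem_zpowers]
  have hNn : N.Normal := by
    have := h.normal_zpowers
    exact Subgroup.normal_subgroupOf
  let _ : CommGroup (Q ⧸ N) := { (inferInstance : Group (Q ⧸ N)) with
    mul_comm := by
      intro u v
      induction u using QuotientGroup.induction_on with | _ x => ?_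
      induction v using QuotientGroup.induction_on with | _ y => ?_
      rw [← QuotientGroup.mk_mul, ← QuotientGroup.mk_mul, QuotientGroup.eq, hN]
      simp only [Subgroup.coe_mul, Subgroup.coe_inv]
      rcases h.comm x x.2 y y.2 with e | e
      · left; rw [e]; group
      · right
        rw [e]
        have : ((y : H) * x * z)⁻¹ * (y * x) = z⁻¹ := by group
        rw [this]; exact h.zi (Or.inr rfl) }
  let V := Additive (Q ⧸ N)
  let mk : Q → V := fun x => Additive.ofMul (QuotientGroup.mk x)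
  have hsurj : Function.Surjective mk := by
    intro v
    obtain ⟨x, hx⟩ := QuotientGroup.mk_surjective (Additive.toMul v)
    exact ⟨x, by show Additive.ofMul _ = v; rw [hx]; rfl⟩
  have mk_mul : ∀ x y, mk (x * y) = mk x + mk y := fun x y => rfl
  have mk_eq : ∀ x y : Q, mk x = mk y ↔ ((y : H) = x ∨ (y : H) = x * z) := by
    intro x y
    have : mk x = mk y ↔ (QuotientGroup.mk x : Q ⧸ N) = QuotientGroup.mk y := Iff.rfl
    rw [this, QuotientGroup.eq, hN]
    simp only [Subgroup.coe_mul, Subgroup.coe_inv]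
    constructor
    · rintro (e | e)
      · left; exact (inv_mul_eq_one.1 e).symm
      · right; rw [← e]; group
    · rintro (e | e)
      · left; rw [e]; group
      · right; rw [e]; group
  have two : ∀ v : V, 2 • v = 0 := by
    intro v
    obtain ⟨x, rfl⟩ := hsurj v
    rw [two_nsmul, ← mk_mul]
    have h1 : mk (1 : Q) = 0 := rfl
    rw [← h1, mk_eq]
    simp only [Subgroup.coe_mul, Subgroup.coe_one]
    rcases h.pow x x.2 with e | e
    · left; exact e.symm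
    · right; rw [e]; exact h.sq.symm
  let _ : Module (ZMod 2) V := AddCommGroup.zmodModule two
  -- the form
  let f : Q → Q → ZMod 2 := fun x y => if (x : H) * y = y * x then 0 else 1
  have hf0 : ∀ x y : Q, f x y = 0 ↔ (x : H) * y = y * x := by
    intro x y
    by_cases e : (x : H) * y = y * x <;> simp only [f, e, ↓ _root_.reduceIte, _root_.one_ne_zero]
  have hf1 : ∀ x y : Q, f x y = 1 ↔ (x : H) * y = y * x * z := by
    intro x y
    rcases h.comm x x.2 y y.2 with e | e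
    · have : ¬ ((x : H) * y = y * x * z) := by
        rw [e]; intro h'; exact h.ne (by simpa using h'.symm)
      simp only [f, e, ↓ _root_.reduceIte, _root_.zero_ne_one, _root_.left_eq_mul, _root_.false_iff, _root_.ne_eq]
      intro h'
      exact h.ne h'
    · have : ¬ ((x : H) * y = y * x) := by
        rw [e]; intro h'; exact h.ne (by simpa using h')
      simp only [f, this, e, _root_.mul_eq_left, _root_.ite_eq_right_iff, _root_.zero_ne_one, _root_.imp_false, _root_.iff_true, _root_.ne_eq]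
      exact h.ne
  have fl : ∀ x x' y : Q, f (x * x') y = f x y + f x' y := by
    intro x x' y
    rcases h.comm x x.2 y y.2 with e | e <;> rcases h.comm x' x'.2 y y.2 with e' | e'
    · have e'' : ((x * x' : Q) : H) * y = y * (x * x' : Q) := by
        rw [Subgroup.coe_mul, mul_assoc, e', ← mul_assoc, e, mul_assoc]
      rw [(hf0 _ _).2 e'', (hf0 _ _).2 e, (hf0 _ _).2 e', add_zero]
    · have e'' : ((x * x' : Q) : H) * y = y * (x * x' : Q) * z := by
        rw [Subgroup.coe_mul, mul_assoc, e', ← mul_assoc, ← mul_assoc, e]; group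
      rw [(hf1 _ _).2 e'', (hf0 _ _).2 e, (hf1 _ _).2 e', zero_add]
    · have e'' : ((x * x' : Q) : H) * y = y * (x * x' : Q) * z := by
        rw [Subgroup.coe_mul, mul_assoc, e', ← mul_assoc, e, mul_assoc _ z, ← h.central]; group
      rw [(hf1 _ _).2 e'', (hf1 _ _).2 e, (hf0 _ _).2 e', add_zero]
    · have e'' : ((x * x' : Q) : H) * y = y * (x * x' : Q) := by
        have : (x : H) * x' * y = y * (x * x') * (z * z) := by
          calc (x : H) * x' * y = x * (x' * y) := by group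
            _ = (x * y) * (x' * z) := by rw [e']; group
            _ = y * x * (z * x') * z := by rw [e]; group
            _ = y * x * (x' * z) * z := by rw [h.central x']
            _ = _ := by group
        rw [Subgroup.coe_mul, this, h.sq, mul_one]
      rw [(hf0 _ _).2 e'', (hf1 _ _).2 e, (hf1 _ _).2 e']
      rfl
  have fs : ∀ x y : Q, f x y = f y x := by
    intro x y
    by_cases e : (x : H) * y = y * x
    · rw [(hf0 x y).2 e, (hf0 y x).2 e.symm]
    · have e' : ¬ ((y : H) * x = x * y) := fun h' => e h'.symm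
      simp [f, e, e']
  have fr : ∀ x y y' : Q, f x (y * y') = f x y + f x y' := by
    intro x y y'
    rw [fs, fl, fs y, fs y']
  have fN : ∀ n ∈ N, ∀ y : Q, f n y = 0 := by
    intro n hn y
    rw [hf0]
    rcases (hN n).1 hn with e | e
    · rw [e]; simp
    · rw [e, h.central]
  let Fq : Q → Q →* Multiplicative (ZMod 2) := fun x =>
    { toFun := fun y => Multiplicative.ofAdd (f x y)
      map_one' := by
        show Multiplicative.ofAdd (f x 1) = Multiplicative.ofAdd 0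
        rw [fs, fN 1 N.one_mem]
      map_mul' := fun y y' => by
        show Multiplicative.ofAdd (f x (y * y')) = Multiplicative.ofAdd (f x y + f x y')
        rw [fr] }
  have hFqN : ∀ x, N ≤ (Fq x).ker := by
    intro x n hn
    rw [MonoidHom.mem_ker]
    show Multiplicative.ofAdd (f x n) = Multiplicative.ofAdd 0
    rw [fs, fN n hn]
  let Fq' : Q → (Q ⧸ N) →* Multiplicative (ZMod 2) := fun x => QuotientGroup.lift N (Fq x) (hFqN x)
  let FF : Q →* ((Q ⧸ N) →* Multiplicative (ZMod 2)) :=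
    { toFun := Fq'
      map_one' := by
        apply QuotientGroup.monoidHom_ext
        ext y
        show Multiplicative.ofAdd (f 1 y) = Multiplicative.ofAdd 0
        rw [fN 1 N.one_mem]
      map_mul' := fun x x' => by
        apply QuotientGroup.monoidHom_ext
        ext y
        show Multiplicative.ofAdd (f (x * x') y) = Multiplicative.ofAdd (f x y + f x' y)
        rw [fl] }
  have hFFN : N ≤ FF.ker := by
    intro n hn
    rw [MonoidHom.mem_ker]
    apply QuotientGroup.monoidHom_ext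
    ext y
    show Multiplicative.ofAdd (f n y) = Multiplicative.ofAdd 0
    rw [fN n hn]
  let FF' : (Q ⧸ N) →* ((Q ⧸ N) →* Multiplicative (ZMod 2)) := QuotientGroup.lift N FF hFFN
  let w : V → V → ZMod 2 := fun v v' => Multiplicative.toAdd (FF' (Additive.toMul v) (Additive.toMul v'))
  have hw : ∀ x y, w (mk x) (mk y) = f x y := fun x y => rfl
  have c2 : ∀ c : ZMod 2, c = 0 ∨ c = 1 := by decide
  have wl : ∀ u v v', w (u + v) v' = w u v' + w v v' := by
    intro u v v'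
    obtain ⟨x, rfl⟩ := hsurj u
    obtain ⟨y, rfl⟩ := hsurj v
    obtain ⟨y', rfl⟩ := hsurj v'
    rw [← mk_mul, hw, hw, hw, fl]
  have wr : ∀ u v v', w u (v + v') = w u v + w u v' := by
    intro u v v'
    obtain ⟨x, rfl⟩ := hsurj u
    obtain ⟨y, rfl⟩ := hsurj v
    obtain ⟨y', rfl⟩ := hsurj v'
    rw [← mk_mul, hw, hw, hw, fr]
  have w0 : ∀ v, w 0 v = 0 := by
    intro v
    have := wl 0 0 v
    rw [add_zero] at this
    have h2 : w 0 v + 0 = w 0 v + w 0 v := by rw [add_zero]; exact this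
    exact (add_left_cancel h2).symm
  have w0' : ∀ v, w v 0 = 0 := by
    intro v
    have := wr v 0 0
    rw [add_zero] at this
    have h2 : w v 0 + 0 = w v 0 + w v 0 := by rw [add_zero]; exact this
    exact (add_left_cancel h2).symm
  let ω : LinearMap.BilinForm (ZMod 2) V := LinearMap.mk₂ (ZMod 2) w wl
    (by
      intro c u v
      rcases c2 c with rfl | rfl
      · rw [zero_smul, zero_smul, w0]
      · rw [one_smul, one_smul])
    wr
    (by
      intro c u v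
      rcases c2 c with rfl | rfl
      · rw [zero_smul, zero_smul, w0']
      · rw [one_smul, one_smul])
  -- the action
  have hmap : ∀ g : H, N.map (MulAut.conjNormal g : Q ≃* Q).toMonoidHom = N := by
    intro g
    have hz1 : ∀ x : H, (x = 1 ∨ x = z) → g * x * g⁻¹ = x := by
      intro x hx
      rw [h.zc hx g]; group
    apply le_antisymm
    · rintro _ ⟨x, hx, rfl⟩
      have hx' := (hN x).1 hx
      rw [hN]
      have : (((MulAut.conjNormal g : Q ≃* Q).toMonoidHom x : Q) : H) = x := by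
        show ((MulAut.conjNormal g x : Q) : H) = x
        rw [MulAut.conjNormal_apply]; exact hz1 _ hx'
      rw [this]; exact hx'
    · intro x hx
      have hx' := (hN x).1 hx
      refine ⟨x, hx, ?_⟩
      apply Subtype.ext
      show ((MulAut.conjNormal g x : Q) : H) = x
      rw [MulAut.conjNormal_apply]; exact hz1 _ hx'
  let Lm : H → (Q ⧸ N) ≃* (Q ⧸ N) := fun g => QuotientGroup.congr N N (MulAut.conjNormal g) (hmap g)
  let La : H → V ≃+ V := fun g => MulEquiv.toAdditive (Lm g)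
  let L : H → V ≃ₗ[ZMod 2] V := fun g => (La g).toLinearEquiv (fun c x => ZMod.map_smul (La g) c x)
  exact ⟨{
    V := V
    cls := mk
    surj := hsurj
    cls_mul := mk_mul
    cls_eq := mk_eq
    ω := ω
    ω_cls := fun x y => hf0 x y
    L := L
    L_cls := by
      intro g x y hy
      have : y = MulAut.conjNormal g x := Subtype.ext (by rw [hy, MulAut.conjNormal_apply])
      rw [this]
      rfl
    fin := inferInstanceAs (Finite (Q ⧸ N)) }⟩

/-- **the extraspecial coset lemma** -/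
theorem ES.step (h : ES Q z) [Finite Q] {a b c : H} (hfp : FPz Q z a b)
    (hc : c * (a * b * a⁻¹ * b⁻¹)⁻¹ ∈ Q)
    (hact : ∃ x ∈ Q, ¬ (c * x * c⁻¹ = x ∨ c * x * c⁻¹ = x * z)) :
    ∃ q₁ ∈ Q, ∃ q₂ ∈ Q, c = (q₁ * a) * (q₂ * b) * (q₁ * a)⁻¹ * (q₂ * b)⁻¹ := by
  classical
  obtain ⟨p₁, hp₁, p₂, hp₂, ζ, hζ, e⟩ := h.step_mod hfp hc
  rcases hζ with rfl | rfl
  · exact ⟨p₁, hp₁, p₂, hp₂, by rw [← e, mul_one]⟩
  by_contra hno
  push Not at hno
  have hfp' : FPz Q ζ (p₁ * a) (p₂ * b) := hfp.mul_left h hp₁ hp₂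
  obtain ⟨a₁, ha₁⟩ : ∃ a₁, a₁ = p₁ * a := ⟨_, rfl⟩
  obtain ⟨b₁, hb₁⟩ : ∃ b₁, b₁ = p₂ * b := ⟨_, rfl⟩
  have hno' : ∀ q₁ ∈ Q, ∀ q₂ ∈ Q,
      (q₁ * a₁) * (q₂ * b₁) * (q₁ * a₁)⁻¹ * (q₂ * b₁)⁻¹ ≠ c := by
    intro q₁ h₁ q₂ h₂ e'
    refine hno (q₁ * p₁) (Q.mul_mem h₁ hp₁) (q₂ * p₂) (Q.mul_mem h₂ hp₂) ?_
    rw [← e', ha₁, hb₁]; group
  rw [← ha₁, ← hb₁] at e hfp'
  obtain ⟨c₁, hc₁⟩ : ∃ c₁, c₁ = a₁ * b₁ * a₁⁻¹ * b₁⁻¹ := ⟨_, rfl⟩
  obtain ⟨g, hg⟩ : ∃ g, g = a₁ * b₁ * a₁⁻¹ := ⟨_, rfl⟩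
  rw [← hc₁] at e
  -- the function Φ
  let Φ : Q → Q → H := fun r₁ r₂ => r₁ * (a₁ * r₂ * a₁⁻¹) * (g * r₁ * g⁻¹)⁻¹ * (c₁ * r₂ * c₁⁻¹)⁻¹
  have hΦ : ∀ r₁ r₂ : Q, (r₁ * a₁) * (r₂ * b₁) * (r₁ * a₁)⁻¹ * (r₂ * b₁)⁻¹ = Φ r₁ r₂ * c₁ := by
    intro r₁ r₂
    show _ = r₁ * (a₁ * r₂ * a₁⁻¹) * (g * r₁ * g⁻¹)⁻¹ * (c₁ * r₂ * c₁⁻¹)⁻¹ * c₁
    rw [hc₁, hg]; group
  have hΦ1 : ∀ r₁ r₂ : Q, (Φ r₁ r₂ = 1 ∨ Φ r₁ r₂ = ζ) → Φ r₁ r₂ = 1 := by
    intro r₁ r₂ h'
    rcases h' with h' | h'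
    · exact h'
    · exfalso
      refine hno' r₁ r₁.2 r₂ r₂.2 ?_
      rw [hΦ, h', ← e, h.central c, ← mul_assoc, h.sq, one_mul]
  obtain ⟨D⟩ := h.exists_vdata
  let _ := D.acg
  let _ := D.mod
  have hfin := D.fin
  have : FiniteDimensional (ZMod 2) D.V := Module.Finite.of_finite
  -- conjugation inside Q
  let K : H → Q → Q := fun g x => ⟨g * x * g⁻¹, h.conj_mem x.2 g⟩
  have hL : ∀ g x, D.L g (D.cls x) = D.cls (K g x) := fun g x => D.L_cls g x _ rfl
  have c2 : ∀ c : ZMod 2, c = 0 ∨ c = 1 := by decide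
  have ceq : ∀ s t : ZMod 2, (s = 0 ↔ t = 0) → s = t := by decide
  have hs : ∀ x y, D.ω x y = D.ω y x := by
    intro u v
    obtain ⟨x, rfl⟩ := D.surj u
    obtain ⟨y, rfl⟩ := D.surj v
    apply ceq
    rw [D.ω_cls, D.ω_cls]
    exact eq_comm
  have hnd : D.ω.Nondegenerate := by
    have key : ∀ u, (∀ v, D.ω u v = 0) → u = 0 := by
      intro u hu
      obtain ⟨x, rfl⟩ := D.surj u
      have h1 := h.nd x x.2 (fun y hy => by
        have := hu (D.cls ⟨y, hy⟩)
        rwa [D.ω_cls] at this)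
      have h0 : D.cls 1 = 0 := by
        have := D.cls_mul 1 1
        rw [mul_one] at this
        have h2 : D.cls 1 + 0 = D.cls 1 + D.cls 1 := by rw [add_zero]; exact this
        exact (add_left_cancel h2).symm
      rw [← h0, eq_comm, D.cls_eq]
      simpa only [_root_.OneMemClass.coe_one, _root_.OneMemClass.coe_eq_one, _root_.one_mul] using h1
    refine ⟨key, fun v hv => key v (fun u => by rw [hs]; exact hv u)⟩
  have hiso : ∀ g x y, D.ω (D.L g x) (D.L g y) = D.ω x y := by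
    intro g u v
    obtain ⟨x, rfl⟩ := D.surj u
    obtain ⟨y, rfl⟩ := D.surj v
    apply ceq
    rw [hL, hL, D.ω_cls, D.ω_cls]
    constructor
    · intro e'
      have e'' : g * ((x : H) * y) * g⁻¹ = g * (y * x) * g⁻¹ := by
        calc g * ((x : H) * y) * g⁻¹ = (K g x : H) * (K g y : H) := by
              show _ = (g * x * g⁻¹) * (g * y * g⁻¹); group
          _ = (K g y : H) * (K g x : H) := e'
          _ = _ := by show (g * y * g⁻¹) * (g * x * g⁻¹) = _; group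
      exact mul_left_cancel (mul_right_cancel e'')
    · intro e'
      show (g * x * g⁻¹) * (g * y * g⁻¹) = (g * y * g⁻¹) * (g * x * g⁻¹)
      calc (g * (x : H) * g⁻¹) * (g * y * g⁻¹) = g * (x * y) * g⁻¹ := by group
        _ = g * (y * x) * g⁻¹ := by rw [e']
        _ = _ := by group
  have hLm : ∀ g k l, (∀ x : H, g * (k * x * k⁻¹) * g⁻¹ = l * x * l⁻¹) →
      ∀ v, D.L g (D.L k v) = D.L l v := by
    intro g k l hk v
    obtain ⟨x, rfl⟩ := D.surj v
    rw [hL, hL, hL]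
    congr 1
    exact Subtype.ext (hk x)
  have hsum : ∀ r₁ r₂ : Q, ∀ h' : Φ r₁ r₂ ∈ Q,
      D.cls ⟨Φ r₁ r₂, h'⟩ = D.cls r₁ + D.L g (D.cls r₁)
        + (D.L a₁ (D.cls r₂) + D.L c₁ (D.cls r₂)) := by
    intro r₁ r₂ h'
    have hinv : ∀ x : Q, D.cls x⁻¹ = D.cls x := by
      intro x
      rw [D.cls_eq]
      rcases h.pow x x.2 with e' | e'
      · left
        exact (inv_eq_of_mul_eq_one_right e').symm
      · right
        have : (x : H)⁻¹ * x * x = (x : H)⁻¹ * ζ := by rw [mul_assoc, e']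
        simpa only [_root_.InvMemClass.coe_inv, _root_.inv_mul_cancel, _root_.one_mul] using this
    have e1 : (⟨Φ r₁ r₂, h'⟩ : Q) = r₁ * K a₁ r₂ * (K g r₁)⁻¹ * (K c₁ r₂)⁻¹ := Subtype.ext rfl
    rw [e1, D.cls_mul, D.cls_mul, D.cls_mul, hinv, hinv, hL, hL, hL]
    abel
  have hmem : ∀ r₁ r₂ : Q, Φ r₁ r₂ ∈ Q := by
    intro r₁ r₂
    exact (r₁ * K a₁ r₂ * (K g r₁)⁻¹ * (K c₁ r₂)⁻¹).2
  have hone : ∀ r₁ r₂ : Q, D.cls r₁ + D.L g (D.cls r₁)
        + (D.L a₁ (D.cls r₂) + D.L c₁ (D.cls r₂)) = 0 → Φ r₁ r₂ = 1 := by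
    intro r₁ r₂ h0
    apply hΦ1
    rw [← hsum r₁ r₂ (hmem r₁ r₂)] at h0
    have h00 : D.cls 1 = 0 := by
      have := D.cls_mul 1 1
      rw [mul_one] at this
      have h2 : D.cls 1 + 0 = D.cls 1 + D.cls 1 := by rw [add_zero]; exact this
      exact (add_left_cancel h2).symm
    rw [← h00, eq_comm, D.cls_eq] at h0
    simpa using h0
  have hγ := rank_lemma D.ω hnd hs (D.L a₁) (D.L b₁) (D.L g) (D.L c₁) (hiso a₁) (hiso g) (hiso c₁)
    (fun x => (hLm g a₁ (a₁ * b₁) (fun x => by rw [hg]; group) x).trans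
      (hLm a₁ b₁ (a₁ * b₁) (fun x => by group) x).symm)
    (fun x => hLm c₁ b₁ g (fun x => by rw [hc₁, hg]; group) x)
    (by
      intro w
      obtain ⟨y, rfl⟩ := D.surj w
      obtain ⟨q₁, h₁, q₂, h₂, ξ, hξ, e'⟩ := h.step_mod (a := a₁) (b := b₁) (c := y * c₁) hfp'
        (by rw [← hc₁, mul_assoc, mul_inv_cancel, mul_one]; exact y.2)
      refine ⟨D.cls ⟨q₁, h₁⟩, D.cls ⟨q₂, h₂⟩, ?_⟩
      rw [← hsum ⟨q₁, h₁⟩ ⟨q₂, h₂⟩ (hmem _ _)]
      have e'' : Φ ⟨q₁, h₁⟩ ⟨q₂, h₂⟩ * c₁ = y * ξ * c₁ := by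
        rw [← hΦ]
        show q₁ * a₁ * (q₂ * b₁) * (q₁ * a₁)⁻¹ * (q₂ * b₁)⁻¹ = _
        rw [← e', mul_assoc, mul_assoc, h.zc hξ c₁]
      have e3 : Φ ⟨q₁, h₁⟩ ⟨q₂, h₂⟩ = y * ξ := mul_right_cancel e''
      rw [eq_comm, D.cls_eq]
      show Φ ⟨q₁, h₁⟩ ⟨q₂, h₂⟩ = y ∨ Φ ⟨q₁, h₁⟩ ⟨q₂, h₂⟩ = y * ζ
      rw [e3]
      rcases hξ with rfl | rfl
      · left; simp
      · right; rfl)
    (by
      intro u₁ u₂ v₁ v₂ hu hv
      obtain ⟨r₁, rfl⟩ := D.surj u₁
      obtain ⟨r₂, rfl⟩ := D.surj u₂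
      obtain ⟨q₁, rfl⟩ := D.surj v₁
      obtain ⟨q₂, rfl⟩ := D.surj v₂
      have o1 := hone r₁ r₂ hu
      have o2 := hone q₁ q₂ hv
      have o3 : Φ (q₁ * r₁) (q₂ * r₂) = 1 := by
        apply hone
        rw [D.cls_mul, D.cls_mul]
        simp only [map_add]
        have : (D.cls q₁ + D.cls r₁) + (D.L g (D.cls q₁) + D.L g (D.cls r₁))
            + (D.L a₁ (D.cls q₂) + D.L a₁ (D.cls r₂) + (D.L c₁ (D.cls q₂) + D.L c₁ (D.cls r₂)))
            = (D.cls q₁ + D.L g (D.cls q₁) + (D.L a₁ (D.cls q₂) + D.L c₁ (D.cls q₂)))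
            + (D.cls r₁ + D.L g (D.cls r₁) + (D.L a₁ (D.cls r₂) + D.L c₁ (D.cls r₂))) := by abel
        rw [this, hu, hv, add_zero]
      -- x = q, y = r
      obtain ⟨x₁, hx₁⟩ : ∃ t, t = (q₁ : H) := ⟨_, rfl⟩
      obtain ⟨x₂, hx₂⟩ : ∃ t, t = a₁ * (q₂ : H) * a₁⁻¹ := ⟨_, rfl⟩
      obtain ⟨x₃, hx₃⟩ : ∃ t, t = g * (q₁ : H) * g⁻¹ := ⟨_, rfl⟩
      obtain ⟨x₄, hx₄⟩ : ∃ t, t = c₁ * (q₂ : H) * c₁⁻¹ := ⟨_, rfl⟩
      obtain ⟨y₁, hy₁⟩ : ∃ t, t = (r₁ : H) := ⟨_, rfl⟩
      obtain ⟨y₂, hy₂⟩ : ∃ t, t = a₁ * (r₂ : H) * a₁⁻¹ := ⟨_, rfl⟩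
      obtain ⟨y₃, hy₃⟩ : ∃ t, t = g * (r₁ : H) * g⁻¹ := ⟨_, rfl⟩
      obtain ⟨y₄, hy₄⟩ : ∃ t, t = c₁ * (r₂ : H) * c₁⁻¹ := ⟨_, rfl⟩
      have p1 : y₁ * y₂ = y₄ * y₃ := by
        have : y₁ * y₂ * y₃⁻¹ * y₄⁻¹ = 1 := by rw [hy₁, hy₂, hy₃, hy₄]; exact o1
        calc y₁ * y₂ = (y₁ * y₂ * y₃⁻¹ * y₄⁻¹) * y₄ * y₃ := by group
          _ = _ := by rw [this, one_mul]
      have p2 : x₁ * x₂ = x₄ * x₃ := by
        have : x₁ * x₂ * x₃⁻¹ * x₄⁻¹ = 1 := by rw [hx₁, hx₂, hx₃, hx₄]; exact o2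
        calc x₁ * x₂ = (x₁ * x₂ * x₃⁻¹ * x₄⁻¹) * x₄ * x₃ := by group
          _ = _ := by rw [this, one_mul]
      have p3 : x₁ * y₁ * (x₂ * y₂) = (x₄ * y₄) * (x₃ * y₃) := by
        have : x₁ * y₁ * (x₂ * y₂) * (x₃ * y₃)⁻¹ * (x₄ * y₄)⁻¹ = 1 := by
          have o4 : ((q₁ * r₁ : Q) : H) * (a₁ * ((q₂ * r₂ : Q) : H) * a₁⁻¹)
            * (g * ((q₁ * r₁ : Q) : H) * g⁻¹)⁻¹ * (c₁ * ((q₂ * r₂ : Q) : H) * c₁⁻¹)⁻¹ = 1 := o3
          rw [Subgroup.coe_mul, Subgroup.coe_mul] at o4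
          rw [hx₁, hx₂, hx₃, hx₄, hy₁, hy₂, hy₃, hy₄, ← o4]; group
        calc x₁ * y₁ * (x₂ * y₂)
            = (x₁ * y₁ * (x₂ * y₂) * (x₃ * y₃)⁻¹ * (x₄ * y₄)⁻¹) * (x₄ * y₄) * (x₃ * y₃) := by group
          _ = _ := by rw [this, one_mul]
      have m1 : y₁ ∈ Q := by rw [hy₁]; exact r₁.2
      have m2 : x₂ ∈ Q := by rw [hx₂]; exact h.conj_mem q₂.2 a₁
      have m3 : y₄ ∈ Q := by rw [hy₄]; exact h.conj_mem r₂.2 c₁
      have m4 : x₃ ∈ Q := by rw [hx₃]; exact h.conj_mem q₁.2 g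
      -- y₁ x₂ vs y₄ x₃
      have cc : (y₁ * x₂ = x₂ * y₁) ↔ (y₄ * x₃ = x₃ * y₄) := by
        constructor
        · intro e1
          have : x₁ * (y₁ * x₂) * y₂ = x₄ * (y₄ * x₃) * y₃ := by
            calc x₁ * (y₁ * x₂) * y₂ = x₁ * y₁ * (x₂ * y₂) := by group
              _ = (x₄ * y₄) * (x₃ * y₃) := p3
              _ = _ := by group
          have e2 : x₄ * (y₄ * x₃) * y₃ = x₄ * (x₃ * y₄) * y₃ := by
            rw [← this, e1]
            calc x₁ * (x₂ * y₁) * y₂ = (x₁ * x₂) * (y₁ * y₂) := by group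
              _ = (x₄ * x₃) * (y₄ * y₃) := by rw [p1, p2]
              _ = _ := by group
          exact mul_left_cancel (mul_right_cancel e2)
        · intro e1
          have : x₁ * (y₁ * x₂) * y₂ = x₄ * (y₄ * x₃) * y₃ := by
            calc x₁ * (y₁ * x₂) * y₂ = x₁ * y₁ * (x₂ * y₂) := by group
              _ = (x₄ * y₄) * (x₃ * y₃) := p3
              _ = _ := by group
          have e2 : x₁ * (y₁ * x₂) * y₂ = x₁ * (x₂ * y₁) * y₂ := by
            rw [this, e1]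
            calc x₄ * (x₃ * y₄) * y₃ = (x₄ * x₃) * (y₄ * y₃) := by group
              _ = (x₁ * x₂) * (y₁ * y₂) := by rw [p1, p2]
              _ = _ := by group
          exact mul_left_cancel (mul_right_cancel e2)
      have e5 : D.ω (D.cls r₁) (D.L a₁ (D.cls q₂)) = D.ω (D.L g (D.cls q₁)) (D.L c₁ (D.cls r₂)) := by
        apply ceq
        rw [hL, hL, hL, D.ω_cls, D.ω_cls]
        have t1 : ((K a₁ q₂ : Q) : H) = x₂ := hx₂.symm
        have t2 : ((K g q₁ : Q) : H) = x₃ := hx₃.symm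
        have t3 : ((K c₁ r₂ : Q) : H) = y₄ := hy₄.symm
        rw [t1, t2, t3, ← hy₁, cc]
        exact eq_comm
      rw [e5]
      rcases c2 (D.ω (D.L g (D.cls q₁)) (D.L c₁ (D.cls r₂))) with h0 | h0
      · rw [h0]; rfl
      · rw [h0]; rfl)
  -- conclusion
  obtain ⟨x, hx, hne⟩ := hact
  apply hne
  have h1 := hγ (D.cls ⟨x, hx⟩)
  rw [hL, eq_comm, D.cls_eq] at h1
  have h2 : ((K c₁ ⟨x, hx⟩ : Q) : H) = c * x * c⁻¹ := by
    show c₁ * x * c₁⁻¹ = _
    rw [← e]
    calc c * ζ * x * (c * ζ)⁻¹ = c * (ζ * x * ζ⁻¹) * c⁻¹ := by group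
      _ = c * x * c⁻¹ := by rw [← h.central x]; group
  rwa [h2] at h1

/-- **the extraspecial coset lemma along a surjection** -/
theorem ES.lift {K : Type*} [Group K] (π : H →* K) (h : ES π.ker z) [Finite π.ker] {a b c : H}
    (hfp : FPz π.ker z a b) (hc : π c = π a * π b * (π a)⁻¹ * (π b)⁻¹)
    (hact : ∃ x ∈ π.ker, ¬ (c * x * c⁻¹ = x ∨ c * x * c⁻¹ = x * z)) :
    ∃ a' b' : H, π a' = π a ∧ π b' = π b ∧ c = a' * b' * a'⁻¹ * b'⁻¹ := by
  have h1 : c * (a * b * a⁻¹ * b⁻¹)⁻¹ ∈ π.ker := by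
    rw [MonoidHom.mem_ker, map_mul, hc, map_inv]
    simp only [_root_.map_mul, _root_.map_inv, _root_.mul_inv_rev, _root_.inv_inv, _root_.mul_inv_mul_mul_cancel, _root_.mul_mul_inv_mul_cancel, _root_.mul_inv_cancel]
  obtain ⟨q₁, h₁, q₂, h₂, e⟩ := h.step hfp h1 hact
  refine ⟨q₁ * a, q₂ * b, ?_, ?_, e⟩
  · rw [map_mul, (MonoidHom.mem_ker).1 h₁, one_mul]
  · rw [map_mul, (MonoidHom.mem_ker).1 h₂, one_mul]

/-- `a` without fixed point on `V = Q/⟨z⟩` -/
theorem FPz.of_left (h : ES Q z) [Finite Q] {a : H} (b : H)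
    (hfix : ∀ x ∈ Q, (a * x * a⁻¹ = x ∨ a * x * a⁻¹ = x * z) → x = 1 ∨ x = z) :
    FPz Q z a b := by
  obtain ⟨D⟩ := h.exists_vdata
  let _ := D.acg
  let _ := D.mod
  have hfin := D.fin
  have hLc : ∀ x : Q, D.L a (D.cls x) = D.cls ⟨a * x * a⁻¹, h.conj_mem x.2 a⟩ :=
    fun x => D.L_cls a x _ rfl
  have h0 : D.cls 1 = 0 := by
    have := D.cls_mul 1 1
    rw [mul_one] at this
    have h2 : D.cls 1 + 0 = D.cls 1 + D.cls 1 := by rw [add_zero]; exact this
    exact (add_left_cancel h2).symm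
  have hinv : ∀ x : Q, D.cls x⁻¹ = D.cls x := by
    intro x
    rw [D.cls_eq]
    rcases h.pow x x.2 with e' | e'
    · left
      exact (inv_eq_of_mul_eq_one_right e').symm
    · right
      have : (x : H)⁻¹ * x * x = (x : H)⁻¹ * z := by rw [mul_assoc, e']
      simpa only [_root_.InvMemClass.coe_inv, _root_.inv_mul_cancel, _root_.one_mul] using this
  have hinj : Function.Injective (fun v : D.V => v - D.L a v) := by
    have key : ∀ v, v - D.L a v = 0 → v = 0 := by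
      intro v hv
      obtain ⟨x, rfl⟩ := D.surj v
      have h1 : D.cls x = D.L a (D.cls x) := sub_eq_zero.1 hv
      rw [hLc, D.cls_eq] at h1
      rw [← h0, eq_comm, D.cls_eq]
      simpa only [_root_.OneMemClass.coe_one, _root_.OneMemClass.coe_eq_one, _root_.one_mul] using hfix x x.2 h1
    intro u v huv
    have h1 : (u - v) - D.L a (u - v) = 0 := by
      rw [map_sub]
      have : u - v - (D.L a u - D.L a v) = (u - D.L a u) - (v - D.L a v) := by abel
      rw [this]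
      exact sub_eq_zero.2 huv
    exact sub_eq_zero.1 (key _ h1)
  have hsurj := Finite.surjective_of_injective hinj
  intro w hw
  obtain ⟨t, ht⟩ := hsurj (D.cls ⟨w, hw⟩)
  obtain ⟨v, rfl⟩ := D.surj t
  have h2 : D.cls (v * (⟨a * v * a⁻¹, h.conj_mem v.2 a⟩ : Q)⁻¹) = D.cls ⟨w, hw⟩ := by
    rw [D.cls_mul, hinv, ← hLc, ← ht]
    have two : ∀ x : D.V, x + x = 0 := by
      intro x
      have : (2 : ZMod 2) • x = 0 := by
        rw [show (2 : ZMod 2) = 0 from rfl, zero_smul]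
      rwa [two_smul] at this
    show _ = D.cls v - D.L a (D.cls v)
    rw [sub_eq_add_neg]
    congr 1
    rw [eq_neg_iff_add_eq_zero]
    exact two _
  rw [D.cls_eq] at h2
  have h3 : w = v * (a * v * a⁻¹)⁻¹ ∨ w = v * (a * v * a⁻¹)⁻¹ * z := h2
  rcases h3 with h3 | h3
  · exact ⟨1, Q.one_mem, v, v.2, 1, Or.inl rfl, by rw [h3]; group⟩
  · refine ⟨1, Q.one_mem, v, v.2, z, Or.inr rfl, ?_⟩
    rw [h3]; group

/-- **T6** the noncentral elements of `Q` if `a` has no fixed point on `Q/⟨z⟩` -/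
theorem ES.isComm_of_mem (h : ES Q z) [Finite Q] {a : H}
    (hfix : ∀ x ∈ Q, (a * x * a⁻¹ = x ∨ a * x * a⁻¹ = x * z) → x = 1 ∨ x = z)
    {q : H} (hq : q ∈ Q) (hne : ¬ (q = 1 ∨ q = z)) : IsComm q := by
  obtain ⟨q₁, h₁, q₂, h₂, ζ, hζ, e⟩ := h.step_mod (a := a) (b := 1) (c := q)
    (FPz.of_left h 1 hfix) (by simpa using hq)
  rcases hζ with rfl | rfl
  · rw [mul_one] at e
    exact ⟨_, _, e⟩
  · have : ∃ y ∈ Q, ¬ (q * y = y * q) := by
      by_contra hno
      push Not at hno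
      exact hne (h.nd q hq hno)
    obtain ⟨y, hy, hyq⟩ := this
    have e2 : q * y = y * q * ζ := (h.comm q hq y hy).resolve_left hyq
    have e3 : y⁻¹ * (q * ζ) * y = q := by
      calc y⁻¹ * (q * ζ) * y = y⁻¹ * (q * (ζ * y)) := by group
        _ = y⁻¹ * (q * y * ζ) := by rw [← h.central y]; group
        _ = y⁻¹ * (y * q * ζ * ζ) := by rw [e2]
        _ = q * (ζ * ζ) := by group
        _ = q := by rw [h.sq, mul_one]
    have h4 : IsComm (y⁻¹ * (q * ζ) * (y⁻¹)⁻¹) := (IsComm.conj ⟨_, _, e⟩ y⁻¹)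
    rwa [inv_inv, e3] at h4

end Cfsg.Agent.H6.ORE
end
end

-- part: H6/ORE/LargeOre
section
prune_inst 0x410000004140000000000084010000400a0000000000000050400000048c800020000000800010000002804400340008110000000250000004000800011801a0000002001000a000800000000000000000000000000000000000000000000000000000000
set_option linter.all false
open scoped Cfsg.Agent.FastGrp

-- part: H6/ORE/Fix
section
/-!
# `FPz` from the absence of common fixed points, conjugates in supplements (helper6, cluster ORE)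

* `FPz.of_fix` : `ES Q z`, `Q` finite, only `1`, `z` are fixed modulo `z` by both `a` and `b`: `FPz Q z a b`;
* `exists_isConj` : `N` a normal 2-subgroup (`r`-prime order suffices), `d ≡ p` modulo `N`, `p` of prime order
  `r ∤ |N|`: a power of `d` is conjugate to `p`;
* `ES.exists_of_mem` : a non-central `q ∈ Q` is `[α, β]` with `α ≡ a`, `β ≡ b` modulo `Q` if `a`, `b` commute and
  `FPz Q z a b`.
-/

set_option autoImplicit false

namespace Cfsg.Agent.H6.ORE

universe u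

open Module

variable {H : Type u} [Group H] {Q : Subgroup H} {z : H}

/-- `V = [V, ⟨a, b⟩]` if `a`, `b` have no common fixed point on `V = Q/⟨z⟩` -/
theorem FPz.of_fix (h : ES Q z) [Finite Q] {a b : H}
    (hfix : ∀ x ∈ Q, (a * x * a⁻¹ = x ∨ a * x * a⁻¹ = x * z) → (b * x * b⁻¹ = x ∨ b * x * b⁻¹ = x * z) →
      x = 1 ∨ x = z) : FPz Q z a b := by
  classical
  obtain ⟨D⟩ := h.exists_vdata
  let _ := D.acg
  let _ := D.mod
  have hfin := D.fin
  have : FiniteDimensional (ZMod 2) D.V := Module.Finite.of_finite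
  let K : H → Q → Q := fun g x => ⟨g * x * g⁻¹, h.conj_mem x.2 g⟩
  have hL : ∀ g x, D.L g (D.cls x) = D.cls (K g x) := fun g x => D.L_cls g x _ rfl
  have ceq : ∀ s t : ZMod 2, (s = 0 ↔ t = 0) → s = t := by decide
  have h0 : D.cls 1 = 0 := by
    have := D.cls_mul 1 1
    rw [mul_one] at this
    have h2 : D.cls 1 + 0 = D.cls 1 + D.cls 1 := by rw [add_zero]; exact this
    exact (add_left_cancel h2).symm
  have two : ∀ x : D.V, x + x = 0 := by
    intro x
    have : (2 : ZMod 2) • x = 0 := by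
      rw [show (2 : ZMod 2) = 0 from rfl, zero_smul]
    rwa [two_smul] at this
  have hinv : ∀ x : Q, D.cls x⁻¹ = D.cls x := by
    intro x
    rw [D.cls_eq]
    rcases h.pow x x.2 with e' | e'
    · left
      exact (inv_eq_of_mul_eq_one_right e').symm
    · right
      have : (x : H)⁻¹ * x * x = (x : H)⁻¹ * z := by rw [mul_assoc, e']
      simpa using this
  have key : ∀ u, (∀ v, D.ω u v = 0) → u = 0 := by
    intro u hu
    obtain ⟨x, rfl⟩ := D.surj u
    have h1 := h.nd x x.2 (fun y hy => by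
      have := hu (D.cls ⟨y, hy⟩)
      rwa [D.ω_cls] at this)
    rw [← h0, eq_comm, D.cls_eq]
    simpa using h1
  have hiso : ∀ g x y, D.ω (D.L g x) (D.L g y) = D.ω x y := by
    intro g u v
    obtain ⟨x, rfl⟩ := D.surj u
    obtain ⟨y, rfl⟩ := D.surj v
    apply ceq
    rw [hL, hL, D.ω_cls, D.ω_cls]
    constructor
    · intro e'
      have e'' : g * ((x : H) * y) * g⁻¹ = g * (y * x) * g⁻¹ := by
        calc g * ((x : H) * y) * g⁻¹ = (K g x : H) * (K g y : H) := by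
              show _ = (g * x * g⁻¹) * (g * y * g⁻¹); group
          _ = (K g y : H) * (K g x : H) := e'
          _ = _ := by show (g * y * g⁻¹) * (g * x * g⁻¹) = _; group
      exact mul_left_cancel (mul_right_cancel e'')
    · intro e'
      show (g * x * g⁻¹) * (g * y * g⁻¹) = (g * y * g⁻¹) * (g * x * g⁻¹)
      calc (g * (x : H) * g⁻¹) * (g * y * g⁻¹) = g * (x * y) * g⁻¹ := by group
        _ = g * (y * x) * g⁻¹ := by rw [e']
        _ = _ := by group
  -- every functional is given by the form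
  have hrep : ∀ f : D.V →ₗ[ZMod 2] ZMod 2, ∃ u, ∀ w, f w = D.ω u w := by
    have hinj : Function.Injective D.ω := by
      rw [injective_iff_map_eq_zero]
      intro u hu
      apply key
      intro v
      rw [hu]; rfl
    have hsurj : Function.Surjective D.ω := by
      have hfr : finrank (ZMod 2) D.V = finrank (ZMod 2) (D.V →ₗ[ZMod 2] ZMod 2) :=
        (Subspace.dual_finrank_eq (K := ZMod 2) (V := D.V)).symm
      exact (LinearMap.injective_iff_surjective_of_finrank_eq_finrank hfr).1 hinj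
    intro f
    obtain ⟨u, hu⟩ := hsurj f
    exact ⟨u, fun w => by rw [← hu]⟩
  let La : D.V →ₗ[ZMod 2] D.V := LinearMap.id + (D.L a).toLinearMap
  let Lb : D.V →ₗ[ZMod 2] D.V := LinearMap.id + (D.L b).toLinearMap
  have hLa : ∀ v, La v = v + D.L a v := fun _ => rfl
  have hLb : ∀ v, Lb v = v + D.L b v := fun _ => rfl
  have hT : LinearMap.range La ⊔ LinearMap.range Lb = ⊤ := by
    by_contra hne
    obtain ⟨f, hf, hle⟩ := Submodule.exists_le_ker_of_lt_top _ (lt_top_iff_ne_top.2 hne)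
    obtain ⟨u, hu⟩ := hrep f
    have hu0 : u ≠ 0 := by
      rintro rfl
      apply hf
      ext w
      rw [hu, map_zero]
    have fixed : ∀ g : H, (∀ w, f (w + D.L g w) = 0) → D.L g u = u := by
      intro g hg
      have h1 : ∀ w, D.ω (D.L g u + u) (D.L g w) = 0 := by
        intro w
        rw [map_add, LinearMap.add_apply, hiso, ← hu, ← hu, ← map_add]
        exact hg w
      have h2 : D.L g u + u = 0 := by
        apply key
        intro v
        obtain ⟨w, rfl⟩ := (D.L g).surjective v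
        exact h1 w
      have h3 := congrArg (fun t => t + u) h2
      simpa [add_assoc, two] using h3
    have fa : D.L a u = u := fixed a fun w => hle (Submodule.mem_sup_left ⟨w, rfl⟩)
    have fb : D.L b u = u := fixed b fun w => hle (Submodule.mem_sup_right ⟨w, rfl⟩)
    obtain ⟨x, rfl⟩ := D.surj u
    apply hu0
    rw [← h0, eq_comm, D.cls_eq]
    have h5 : (x : H) = 1 ∨ (x : H) = z := by
      apply hfix x x.2
      · rw [hL, eq_comm, D.cls_eq] at fa
        exact fa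
      · rw [hL, eq_comm, D.cls_eq] at fb
        exact fb
    simpa using h5
  intro w hw
  have hw' : D.cls ⟨w, hw⟩ ∈ LinearMap.range La ⊔ LinearMap.range Lb := by rw [hT]; trivial
  rw [Submodule.mem_sup] at hw'
  obtain ⟨_, ⟨v', rfl⟩, _, ⟨u', rfl⟩, e⟩ := hw'
  obtain ⟨v, rfl⟩ := D.surj v'
  obtain ⟨u, rfl⟩ := D.surj u'
  have h2 : D.cls (u * (K b u)⁻¹ * (v * (K a v)⁻¹)) = D.cls ⟨w, hw⟩ := by
    rw [D.cls_mul, D.cls_mul, D.cls_mul, hinv, hinv, ← hL, ← hL, ← e, hLa, hLb]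
    abel
  rw [D.cls_eq] at h2
  have h3 : w = u * (b * u * b⁻¹)⁻¹ * (v * (a * v * a⁻¹)⁻¹) ∨
      w = u * (b * u * b⁻¹)⁻¹ * (v * (a * v * a⁻¹)⁻¹) * z := h2
  rcases h3 with h3 | h3
  · exact ⟨u, u.2, v, v.2, 1, Or.inl rfl, by rw [h3, mul_one]⟩
  · exact ⟨u, u.2, v, v.2, z, Or.inr rfl, h3⟩

/-- a noncentral element of `Q` as a commutator of elements congruent to `a`, `b` -/
theorem ES.exists_of_mem (h : ES Q z) {a b : H} (hab : a * b = b * a) (hfp : FPz Q z a b)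
    {q : H} (hq : q ∈ Q) (hne : ¬ (q = 1 ∨ q = z)) :
    ∃ α β : H, α * a⁻¹ ∈ Q ∧ β * b⁻¹ ∈ Q ∧ q = α * β * α⁻¹ * β⁻¹ := by
  have hab' : a * b * a⁻¹ * b⁻¹ = 1 := by rw [hab]; group
  obtain ⟨q₁, h₁, q₂, h₂, ζ, hζ, e⟩ := h.step_mod (a := a) (b := b) (c := q) hfp (by rw [hab']; simpa using hq)
  rcases hζ with rfl | rfl
  · rw [mul_one] at e
    exact ⟨q₁ * a, q₂ * b, by simpa using h₁, by simpa using h₂, e⟩
  · have : ∃ y ∈ Q, ¬ (q * y = y * q) := by
      by_contra hno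
      push Not at hno
      exact hne (h.nd q hq hno)
    obtain ⟨y, hy, hyq⟩ := this
    have e2 : q * y = y * q * ζ := (h.comm q hq y hy).resolve_left hyq
    have e3 : y⁻¹ * (q * ζ) * y = q := by
      calc y⁻¹ * (q * ζ) * y = y⁻¹ * (q * (ζ * y)) := by group
        _ = y⁻¹ * (q * y * ζ) := by rw [← h.central y]; group
        _ = y⁻¹ * (y * q * ζ * ζ) := by rw [e2]
        _ = q * (ζ * ζ) := by group
        _ = q := by rw [h.sq, mul_one]
    have hyi := Q.inv_mem hy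
    refine ⟨y⁻¹ * (q₁ * a) * y, y⁻¹ * (q₂ * b) * y, ?_, ?_, ?_⟩
    · have : y⁻¹ * (q₁ * a) * y * a⁻¹ = y⁻¹ * q₁ * (a * y * a⁻¹) := by group
      rw [this]
      exact Q.mul_mem (Q.mul_mem hyi h₁) (h.conj_mem hy a)
    · have : y⁻¹ * (q₂ * b) * y * b⁻¹ = y⁻¹ * q₂ * (b * y * b⁻¹) := by group
      rw [this]
      exact Q.mul_mem (Q.mul_mem hyi h₂) (h.conj_mem hy b)
    · rw [← e3, e]; group

/-- an element congruent to `p` (of prime order `r`) modulo a normal `r'`-subgroup has a power conjugate to `p` -/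
theorem exists_isConj [Finite H] {N : Subgroup H} (hN : N.Normal) {r : ℕ} (hr : r.Prime)
    (hrN : ¬ r ∣ Nat.card N) {p d : H} (hp : orderOf p = r) (hd : d * p⁻¹ ∈ N) :
    ∃ k : ℕ, IsConj (d ^ k) p := by
  classical
  have : Fact r.Prime := ⟨hr⟩
  let q : H →* H ⧸ N := QuotientGroup.mk' N
  have hqs : Function.Surjective q := QuotientGroup.mk'_surjective N
  have hdp : q d = q p := by
    have h1 : q (d * p⁻¹) = 1 := (QuotientGroup.eq_one_iff _).2 hd
    rw [map_mul, map_inv] at h1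
    exact mul_inv_eq_one.1 h1
  -- orders modulo N
  have hqp : orderOf (q p) = r := by
    have h1 : orderOf (q p) ∣ r := by rw [← hp]; exact orderOf_map_dvd q p
    rcases (Nat.dvd_prime hr).1 h1 with h2 | h2
    · exfalso
      have h3 : p ∈ N := (QuotientGroup.eq_one_iff _).1 (orderOf_eq_one_iff.1 h2)
      apply hrN
      have h4 : orderOf (⟨p, h3⟩ : N) ∣ Nat.card N := orderOf_dvd_natCard _
      rwa [Subgroup.orderOf_mk, hp] at h4
    · exact h2
  let P : Subgroup H := (Subgroup.zpowers (q p)).comap q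
  have hpP : p ∈ P := Subgroup.mem_zpowers (q p)
  have hdP : d ∈ P := by
    show q d ∈ Subgroup.zpowers (q p)
    rw [hdp]
    exact Subgroup.mem_zpowers (q p)
  have hcard : Nat.card P = r * Nat.card N := by
    have h1 : P.index = (Subgroup.zpowers (q p)).index := Subgroup.index_comap_of_surjective _ hqs
    have h2 : Nat.card P * P.index = Nat.card H := Subgroup.card_mul_index P
    have h3 : Nat.card (Subgroup.zpowers (q p)) * (Subgroup.zpowers (q p)).index = Nat.card (H ⧸ N) :=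
      Subgroup.card_mul_index _
    rw [Nat.card_zpowers, hqp] at h3
    have h4 := Subgroup.card_eq_card_quotient_mul_card_subgroup N
    have h5 : 0 < P.index := Nat.pos_of_ne_zero Subgroup.index_ne_zero_of_finite
    apply Nat.eq_of_mul_eq_mul_right h5
    rw [h2, h4, ← h3, h1]
    ring
  -- an element of order r in zpowers d
  have hrd : r ∣ orderOf d := by rw [← hqp, ← hdp]; exact orderOf_map_dvd q d
  obtain ⟨m, hm⟩ := hrd
  have hm0 : m ≠ 0 := by
    rintro rfl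
    rw [mul_zero] at hm
    exact (orderOf_pos d).ne' hm
  have hy : orderOf (d ^ m) = r := by
    rw [orderOf_pow_of_dvd hm0 ⟨r, by rw [hm]; ring⟩, hm]
    exact Nat.mul_div_cancel r (Nat.pos_of_ne_zero hm0)
  have hyP : d ^ m ∈ P := P.pow_mem hdP m
  -- Sylow subgroups of P
  have hsyl : ∀ x : P, orderOf (x : H) = r → ∃ S : Sylow r P, (S : Subgroup P) = Subgroup.zpowers x := by
    intro x hx
    have h1 : Nat.card (Subgroup.zpowers x) = r := by
      rw [Nat.card_zpowers, ← Subgroup.orderOf_coe, hx]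
    have h2 : IsPGroup r (Subgroup.zpowers x) := IsPGroup.of_card (n := 1) (by rw [h1, pow_one])
    have h3 : ¬ r ∣ (Subgroup.zpowers x).index := by
      have h4 := Subgroup.card_mul_index (Subgroup.zpowers x)
      rw [h1, hcard] at h4
      have h5 : (Subgroup.zpowers x).index = Nat.card N := Nat.eq_of_mul_eq_mul_left hr.pos h4
      rw [h5]; exact hrN
    exact ⟨h2.toSylow h3, rfl⟩
  obtain ⟨S, hS⟩ := hsyl ⟨p, hpP⟩ hp
  obtain ⟨T, hT⟩ := hsyl ⟨d ^ m, hyP⟩ hy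
  obtain ⟨g, hg⟩ := MulAction.exists_smul_eq P T S
  have h6 : (g * ⟨d ^ m, hyP⟩ * g⁻¹ : P) ∈ (S : Subgroup P) := by
    rw [← hg]
    have h7 : g * ⟨d ^ m, hyP⟩ * g⁻¹ = (MulAut.conj g) • (⟨d ^ m, hyP⟩ : P) := rfl
    rw [h7]
    apply Subgroup.smul_mem_pointwise_smul
    rw [hT]
    exact Subgroup.mem_zpowers _
  rw [hS] at h6
  -- p is a power of g y g⁻¹
  have h7 : Subgroup.zpowers (g * ⟨d ^ m, hyP⟩ * g⁻¹ : P) = Subgroup.zpowers ⟨p, hpP⟩ := by
    apply Subgroup.eq_of_le_of_card_ge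
    · rwa [Subgroup.zpowers_le]
    · have h8 : orderOf (g * ⟨d ^ m, hyP⟩ * g⁻¹ : P) = r := by
        have h9 : orderOf (g * ⟨d ^ m, hyP⟩ * g⁻¹ : P) = orderOf (⟨d ^ m, hyP⟩ : P) :=
          (orderOf_injective (MulAut.conj g).toMonoidHom (MulAut.conj g).injective ⟨d ^ m, hyP⟩)
        rw [h9, ← Subgroup.orderOf_coe]; exact hy
      rw [Nat.card_zpowers, Nat.card_zpowers, h8, ← Subgroup.orderOf_coe]
      exact hp.le
  have h8 : (⟨p, hpP⟩ : P) ∈ Subgroup.zpowers (g * ⟨d ^ m, hyP⟩ * g⁻¹ : P) := by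
    rw [h7]; exact Subgroup.mem_zpowers _
  rw [← mem_powers_iff_mem_zpowers] at h8
  obtain ⟨k, hk⟩ := h8
  refine ⟨m * k, isConj_iff.2 ⟨g, ?_⟩⟩
  have h9 := congrArg Subtype.val hk
  have h10 : ((g : H) * d ^ m * (g : H)⁻¹) ^ k = p := h9
  rw [← h10, conj_pow, pow_mul]

end Cfsg.Agent.H6.ORE
end

-- part: H6/ORE/LargeOre
section
/-!
# Commutators in the centralizer of an involution with an irreducible large extraspecial subgroup (helper6)

`Large Q z`, `Irr Q z`, `C_G(z)/Q ≅ L` where every nontrivial element of `L` is a commutator of two generators.  With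
commuting elements `p`, `q` of `C_G(z)`, `p` of prime order `r ∤ |Q|`, without common fixed points on `Q/⟨z⟩`, `p` with
fixed points on `Q/⟨z⟩`:  every `x ≠ 1` of `C_G(z)` is a commutator `[a, b]` such that `⟨a, b⟩` contains a conjugate
of `p` (`main`).
-/

set_option autoImplicit false

namespace Cfsg.Agent.H6.ORE

universe u

open Cfsg.Agent.Co2Type.Quad (Large)
open Cfsg.Agent.KFacts.LargeO2 (Irr fixQ mem_fixQ mem_of_triv)

variable {G : Type u} [Group G] {Q : Subgroup G} {z : G}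

/-- the centralizer -/
abbrev CZ (z : G) : Subgroup G := Subgroup.centralizer ({z} : Set G)

/-- `z` in its centralizer -/
def zC (z : G) : CZ z := ⟨z, Subgroup.mem_centralizer_singleton_iff.2 rfl⟩

theorem es_of_large (h : Large Q z) : ES (Q.subgroupOf (CZ z)) (zC z) where
  normal := ⟨fun x hx g => by
    rw [Subgroup.mem_subgroupOf] at hx ⊢
    exact h.conj_mem g (Subgroup.mem_centralizer_singleton_iff.1 g.2) x hx⟩
  mem := h.z_mem
  ne := fun e => h.z_ne (congrArg Subtype.val e)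
  sq := Subtype.ext h.z_sq
  central := fun g => Subtype.ext (Subgroup.mem_centralizer_singleton_iff.1 g.2)
  comm := fun x hx y hy => by
    rcases h.comm x hx y hy with e | e
    · exact Or.inl (Subtype.ext e)
    · exact Or.inr (Subtype.ext e)
  pow := fun x hx => by
    rcases h.sq x hx with e | e
    · exact Or.inl (Subtype.ext e)
    · exact Or.inr (Subtype.ext e)
  nd := fun x hx hy => by
    rcases h.cent x hx (fun y hyQ => congrArg Subtype.val
      (hy ⟨y, Subgroup.mem_centralizer_singleton_iff.2 (h.comm_z y hyQ)⟩ hyQ)) with e | e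
    · exact Or.inl (Subtype.ext e)
    · exact Or.inr (Subtype.ext e)

/-- generators modulo `Q` of `C_G(z)` satisfy `FPz` -/
theorem fpz_of_gen [Finite G] (h : Large Q z) (hirr : Irr Q z) {L : Type*} [Group L]
    (π : CZ z →* L)
    (hker : π.ker = Q.subgroupOf (CZ z))
    {a b c : CZ z} (hc : (c : G) ∉ Q)
    (hgen : Subgroup.closure ({π a, π b} : Set L) = ⊤) :
    FPz (Q.subgroupOf (CZ z)) (zC z) a b := by
  have hE := es_of_large h
  have hfinQ : Finite Q := inferInstance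
  have hfin : Finite (Q.subgroupOf (CZ z)) := inferInstance
  apply FPz.of_fix hE
  intro y hy hya hyb
  -- the stabilizer of `y` modulo `z`
  let W : Subgroup (CZ z) :=
    { carrier := {g | g * y * g⁻¹ = y ∨ g * y * g⁻¹ = y * zC z}
      one_mem' := Or.inl (by group)
      mul_mem' := by
        rintro g k (hg | hg) (hk | hk)
        · left
          calc g * k * y * (g * k)⁻¹ = g * (k * y * k⁻¹) * g⁻¹ := by group
            _ = y := by rw [hk, hg]
        · right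
          calc g * k * y * (g * k)⁻¹ = g * (k * y * k⁻¹) * g⁻¹ := by group
            _ = g * (y * zC z) * g⁻¹ := by rw [hk]
            _ = g * y * (zC z * g⁻¹) := by group
            _ = g * y * (g⁻¹ * zC z) := by rw [hE.central]
            _ = (g * y * g⁻¹) * zC z := by group
            _ = y * zC z := by rw [hg]
        · right
          calc g * k * y * (g * k)⁻¹ = g * (k * y * k⁻¹) * g⁻¹ := by group
            _ = y * zC z := by rw [hk, hg]
        · left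
          calc g * k * y * (g * k)⁻¹ = g * (k * y * k⁻¹) * g⁻¹ := by group
            _ = g * (y * zC z) * g⁻¹ := by rw [hk]
            _ = g * y * (zC z * g⁻¹) := by group
            _ = g * y * (g⁻¹ * zC z) := by rw [hE.central]
            _ = (g * y * g⁻¹) * zC z := by group
            _ = y * (zC z * zC z) := by rw [hg]; group
            _ = y := by rw [hE.sq, mul_one]
      inv_mem' := by
        rintro g (hg | hg)
        · left
          calc g⁻¹ * y * g⁻¹⁻¹ = g⁻¹ * (g * y * g⁻¹) * g := by rw [hg]; group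
            _ = y := by group
        · right
          have h1 : y = g⁻¹ * y * g * zC z := by
            calc y = g⁻¹ * (g * y * g⁻¹) * g := by group
              _ = g⁻¹ * y * (zC z * g) := by rw [hg]; group
              _ = g⁻¹ * y * (g * zC z) := by rw [hE.central]
              _ = g⁻¹ * y * g * zC z := by group
          calc g⁻¹ * y * g⁻¹⁻¹ = g⁻¹ * y * g * (zC z * zC z) := by rw [hE.sq]; group
            _ = (g⁻¹ * y * g * zC z) * zC z := by group
            _ = y * zC z := by rw [← h1] }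
  have hWQ : π.ker ≤ W := by
    rw [hker]
    intro g hg
    obtain ⟨ζ, hζ, e⟩ := hE.conj_eq hg hy
    rcases hζ with rfl | rfl
    · left
      show g * y * g⁻¹ = y
      rw [e, mul_one]
    · right
      show g * y * g⁻¹ = y * zC z
      exact e
  have hWtop : W = ⊤ := by
    have h1 : W.map π = ⊤ := by
      rw [eq_top_iff, ← hgen, Subgroup.closure_le]
      rintro _ (rfl | rfl)
      · exact ⟨a, hya, rfl⟩
      · exact ⟨b, hyb, rfl⟩
    rw [eq_top_iff]
    intro g _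
    obtain ⟨w, hw, e⟩ : π g ∈ W.map π := by rw [h1]; trivial
    have h2 : w⁻¹ * g ∈ π.ker := by
      rw [MonoidHom.mem_ker, map_mul, map_inv, e, inv_mul_cancel]
    have h3 : g = w * (w⁻¹ * g) := by group
    rw [h3]
    exact W.mul_mem hw (hWQ h2)
  -- irreducibility
  have hy' : (y : G) ∈ Q := hy
  have hmem : (y : G) ∈ fixQ h (CZ z : Set G) := by
    rw [mem_fixQ]
    refine ⟨hy', fun w hw => ?_⟩
    have h1 : (⟨w, hw⟩ : CZ z) ∈ W := by rw [hWtop]; trivial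
    rcases h1 with h2 | h2
    · exact Or.inl (congrArg Subtype.val h2)
    · exact Or.inr (congrArg Subtype.val h2)
  rcases hirr (fixQ h (CZ z : Set G)) (fun x hx => hx.1) (by
    intro u hu x hx
    rw [mem_fixQ] at hx ⊢
    refine ⟨h.conj_mem u hu x hx.1, fun w hw => ?_⟩
    have huC : u ∈ CZ z := Subgroup.mem_centralizer_singleton_iff.2 hu
    have h1 := hx.2 (u⁻¹ * w * u) ((CZ z).mul_mem
      ((CZ z).mul_mem ((CZ z).inv_mem huC) hw) huC)
    rcases h1 with h2 | h2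
    · left
      calc w * (u * x * u⁻¹) * w⁻¹ = u * (u⁻¹ * w * u * x * (u⁻¹ * w * u)⁻¹) * u⁻¹ := by group
        _ = u * x * u⁻¹ := by rw [h2]
    · right
      have huz : z * u⁻¹ = u⁻¹ * z := by
        have : u⁻¹ * (u * z) * u⁻¹ = u⁻¹ * (z * u) * u⁻¹ := by rw [hu]
        calc z * u⁻¹ = u⁻¹ * (u * z) * u⁻¹ := by group
          _ = u⁻¹ * (z * u) * u⁻¹ := this
          _ = u⁻¹ * z := by group
      calc w * (u * x * u⁻¹) * w⁻¹ = u * (u⁻¹ * w * u * x * (u⁻¹ * w * u)⁻¹) * u⁻¹ := by group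
        _ = u * x * (z * u⁻¹) := by rw [h2]; group
        _ = u * x * u⁻¹ * z := by rw [huz]; group) with h1 | h1
  · rcases h1 y hmem with h2 | h2
    · exact Or.inl (Subtype.ext h2)
    · exact Or.inr (Subtype.ext h2)
  · exfalso
    apply hc
    apply mem_of_triv h (Subgroup.mem_centralizer_singleton_iff.1 c.2)
    intro x hx
    have h2 : x ∈ fixQ h (CZ z : Set G) := by rw [h1]; exact hx
    exact ((mem_fixQ h).1 h2).2 c c.2

section
variable [Finite G]

/-- (A1) elements outside `Q` -/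
theorem main_out (h : Large Q z) (hirr : Irr Q z) {L : Type*} [Group L]
    (π : CZ z →* L) (hπ : Function.Surjective π)
    (hker : π.ker = Q.subgroupOf (CZ z))
    (hL : ∀ l : L, l ≠ 1 → ∃ a b : L, a * b * a⁻¹ * b⁻¹ = l ∧ Subgroup.closure ({a, b} : Set L) = ⊤)
    {r : ℕ} (hr : r.Prime) (hrQ : ¬ r ∣ Nat.card Q) {p : G} (hpz : p * z = z * p) (hp : orderOf p = r)
    {x : G} (hxz : x * z = z * x) (hx : x ∉ Q) :
    ∃ a b : G, x = a * b * a⁻¹ * b⁻¹ ∧ ∃ y ∈ Subgroup.closure ({a, b} : Set G), IsConj y p := by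
  have hE := es_of_large h
  let x' : CZ z := ⟨x, Subgroup.mem_centralizer_singleton_iff.2 hxz⟩
  let p' : CZ z := ⟨p, Subgroup.mem_centralizer_singleton_iff.2 hpz⟩
  have hx1 : π x' ≠ 1 := by
    intro e
    have : x' ∈ π.ker := e
    rw [hker] at this
    exact hx this
  obtain ⟨a0, b0, e0, hgen⟩ := hL _ hx1
  obtain ⟨a, rfl⟩ := hπ a0
  obtain ⟨b, rfl⟩ := hπ b0
  have hfp := fpz_of_gen h hirr π hker (c := x') hx hgen
  have hc : x' * (a * b * a⁻¹ * b⁻¹)⁻¹ ∈ Q.subgroupOf (CZ z) := by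
    rw [← hker, MonoidHom.mem_ker, map_mul, ← e0]
    simp
  have hact : ∃ y ∈ Q.subgroupOf (CZ z), ¬ (x' * y * x'⁻¹ = y ∨ x' * y * x'⁻¹ = y * zC z) := by
    by_contra hno
    push Not at hno
    apply hx
    apply mem_of_triv h hxz
    intro y hy
    by_contra hcon
    push Not at hcon
    have hyC : y ∈ CZ z := Subgroup.mem_centralizer_singleton_iff.2 (h.comm_z y hy)
    have h2 := hno ⟨y, hyC⟩ hy
    rcases h2 with h3 | h3
    · exact hcon.1 (congrArg Subtype.val h3)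
    · exact hcon.2 (congrArg Subtype.val h3)
  obtain ⟨q₁, h₁, q₂, h₂, e⟩ := hE.step hfp hc hact
  have hk : ∀ q ∈ Q.subgroupOf (CZ z), π q = 1 := by
    intro q hq
    rw [← hker] at hq
    exact hq
  -- a conjugate of `p`
  obtain ⟨d, hd, ed⟩ : π p' ∈ (Subgroup.closure ({q₁ * a, q₂ * b} : Set (CZ z))).map π := by
    have h1 : (Subgroup.closure ({q₁ * a, q₂ * b} : Set (CZ z))).map π = ⊤ := by
      rw [MonoidHom.map_closure, Set.image_pair, map_mul, map_mul, hk _ h₁, hk _ h₂, one_mul, one_mul, hgen]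
    rw [h1]; trivial
  have hdp : d * p'⁻¹ ∈ Q.subgroupOf (CZ z) := by
    rw [← hker, MonoidHom.mem_ker, map_mul, map_inv, ed, mul_inv_cancel]
  have hrQ' : ¬ r ∣ Nat.card (Q.subgroupOf (CZ z)) := by
    have hle : Q ≤ CZ z := fun y hy => Subgroup.mem_centralizer_singleton_iff.2 (h.comm_z y hy)
    rw [Nat.card_congr (Subgroup.subgroupOfEquivOfLe hle).toEquiv]
    exact hrQ
  obtain ⟨k, hk'⟩ := exists_isConj hE.normal hr hrQ' (p := p') (d := d)
    (by rw [← Subgroup.orderOf_coe]; exact hp) hdp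
  refine ⟨((q₁ * a : CZ z) : G), ((q₂ * b : CZ z) : G), congrArg Subtype.val e, ((d ^ k : CZ z) : G), ?_, ?_⟩
  · have h3 : d ^ k ∈ Subgroup.closure ({q₁ * a, q₂ * b} : Set (CZ z)) := Subgroup.pow_mem _ hd k
    have h4 : (CZ z).subtype (d ^ k) ∈ (Subgroup.closure ({q₁ * a, q₂ * b} : Set (CZ z))).map (CZ z).subtype := ⟨_, h3, rfl⟩
    rw [MonoidHom.map_closure, Set.image_pair] at h4
    exact h4
  · exact (CZ z).subtype.map_isConj hk'

/-- (A2) noncentral elements of `Q` -/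
theorem main_in (h : Large Q z)
    {r : ℕ} (hr : r.Prime) (hrQ : ¬ r ∣ Nat.card Q) {p q : G} (hpz : p * z = z * p) (hqz : q * z = z * q)
    (hp : orderOf p = r) (hpq : p * q = q * p)
    (hfix : ∀ x ∈ Q, (p * x * p⁻¹ = x ∨ p * x * p⁻¹ = x * z) → (q * x * q⁻¹ = x ∨ q * x * q⁻¹ = x * z) →
      x = 1 ∨ x = z)
    {x : G} (hx : x ∈ Q) (hx1 : x ≠ 1) (hxz : x ≠ z) :
    ∃ a b : G, x = a * b * a⁻¹ * b⁻¹ ∧ ∃ y ∈ Subgroup.closure ({a, b} : Set G), IsConj y p := by
  have hE := es_of_large h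
  let x' : CZ z := ⟨x, Subgroup.mem_centralizer_singleton_iff.2 (h.comm_z x hx)⟩
  let p' : CZ z := ⟨p, Subgroup.mem_centralizer_singleton_iff.2 hpz⟩
  let q' : CZ z := ⟨q, Subgroup.mem_centralizer_singleton_iff.2 hqz⟩
  have hfp : FPz (Q.subgroupOf (CZ z)) (zC z) p' q' := by
    apply FPz.of_fix hE
    intro y hy h1 h2
    have h3 := hfix y hy (h1.imp (congrArg Subtype.val) (congrArg Subtype.val))
      (h2.imp (congrArg Subtype.val) (congrArg Subtype.val))
    exact h3.imp (fun e => Subtype.ext e) (fun e => Subtype.ext e)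
  obtain ⟨α, β, hα, -, e⟩ := hE.exists_of_mem (a := p') (b := q') (Subtype.ext hpq) hfp (q := x') hx
    (by
      rintro (e | e)
      · exact hx1 (congrArg Subtype.val e)
      · exact hxz (congrArg Subtype.val e))
  have hrQ' : ¬ r ∣ Nat.card (Q.subgroupOf (CZ z)) := by
    have hle : Q ≤ CZ z := fun y hy => Subgroup.mem_centralizer_singleton_iff.2 (h.comm_z y hy)
    rw [Nat.card_congr (Subgroup.subgroupOfEquivOfLe hle).toEquiv]
    exact hrQ
  obtain ⟨k, hk'⟩ := exists_isConj hE.normal hr hrQ' (p := p') (d := α)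
    (by rw [← Subgroup.orderOf_coe]; exact hp) hα
  refine ⟨(α : G), (β : G), congrArg Subtype.val e, (α : G) ^ k, ?_, ?_⟩
  · have h1 : (α : G) ∈ Subgroup.closure ({(α : G), (β : G)} : Set G) := Subgroup.subset_closure (Or.inl rfl)
    exact Subgroup.pow_mem _ h1 k
  · exact (CZ z).subtype.map_isConj hk'

omit [Finite G] in
/-- (A3) the involution `z` -/
theorem main_z (h : Large Q z) {p s : G} (hpz : p * z = z * p) (hp : p ^ 5 = 1)
    (hs : s ∈ Q) (hs1 : s ≠ 1) (hsz : s ≠ z) (hps : p * s = s * p) :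
    ∃ a b : G, z = a * b * a⁻¹ * b⁻¹ ∧ ∃ y ∈ Subgroup.closure ({a, b} : Set G), IsConj y p := by
  have h0 : ∃ w ∈ Q, s * w ≠ w * s := by
    by_contra hno
    push Not at hno
    rcases h.cent s hs hno with e | e
    · exact hs1 e
    · exact hsz e
  obtain ⟨w, hw, hsw⟩ := h0
  have hsw' : s * w = w * s * z := (h.comm s hs w hw).resolve_left hsw
  have hcz : ∀ x, x * z = z * x → ∀ y ∈ Q, x * y * x⁻¹ ∈ Q := fun x hx y hy => h.conj_mem x hx y hy
  obtain ⟨w1, hw1⟩ : ∃ w1, w1 = (w * p) ^ 5 := ⟨_, rfl⟩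
  have e1 : w1 = w * (p * w * p⁻¹) * (p ^ 2 * w * (p ^ 2)⁻¹) * (p ^ 3 * w * (p ^ 3)⁻¹) * (p ^ 4 * w * (p ^ 4)⁻¹) := by
    have e2 : w1 = w * (p * w * p⁻¹) * (p ^ 2 * w * (p ^ 2)⁻¹) * (p ^ 3 * w * (p ^ 3)⁻¹)
        * (p ^ 4 * w * (p ^ 4)⁻¹) * p ^ 5 := by
      rw [hw1]; simp only [pow_succ, pow_zero, one_mul]; group
    rw [e2, hp, mul_one]
  have hpzk : ∀ k : ℕ, p ^ k * z = z * p ^ k := fun k => ((show Commute p z from hpz).pow_left k).eq
  have hw1Q : w1 ∈ Q := by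
    rw [e1]
    exact Q.mul_mem (Q.mul_mem (Q.mul_mem (Q.mul_mem hw (hcz p hpz w hw)) (hcz _ (hpzk 2) w hw))
      (hcz _ (hpzk 3) w hw)) (hcz _ (hpzk 4) w hw)
  -- `s` and `w1`
  have hs2 : s * w1 * s⁻¹ = w1 * z := by
    have h1 : s * (w * p) * s⁻¹ = (w * p) * z := by
      calc s * (w * p) * s⁻¹ = (s * w) * (p * s⁻¹) := by group
        _ = (w * s * z) * (p * s⁻¹) := by rw [hsw']
        _ = w * s * (z * p) * s⁻¹ := by group
        _ = w * s * (p * z) * s⁻¹ := by rw [hpz]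
        _ = w * (s * p) * (z * s⁻¹) := by group
        _ = w * (p * s) * (s⁻¹ * z) := by
            rw [hps, h.comm_z s⁻¹ (Q.inv_mem hs)]
        _ = w * p * z := by group
    have h2 : Commute (w * p) z := by
      have := h.comm_z w hw
      exact (show Commute w z from this).mul_left (show Commute p z from hpz)
    have hz2 : z ^ 2 = 1 := by rw [pow_two]; exact h.z_sq
    rw [hw1, ← conj_pow, h1, h2.mul_pow]
    congr 1
    calc z ^ 5 = (z ^ 2) ^ 2 * z := by rw [← pow_mul, ← pow_succ]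
      _ = z := by rw [hz2, one_pow, one_mul]
  -- `p` commutes with `w1`
  have hpw : p * w1 = w1 * p := by
    have h1 : p * w1 * p⁻¹ = w⁻¹ * w1 * w := by
      rw [hw1]
      have h2 : p * (w * p) ^ 5 * p⁻¹ = w⁻¹ * ((w * p) * (w * p) ^ 5) * p⁻¹ := by
        generalize (w * p) ^ 5 = t
        group
      have h3 : (w * p) * (w * p) ^ 5 = (w * p) ^ 5 * (w * p) := by rw [← pow_succ, ← pow_succ']
      rw [h2, h3]
      generalize (w * p) ^ 5 = t
      group
    rcases h.comm w1 hw1Q w hw with h2 | h2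
    · have h3 : p * w1 * p⁻¹ = w1 := by
        rw [h1, mul_assoc, h2]; group
      calc p * w1 = (p * w1 * p⁻¹) * p := by group
        _ = w1 * p := by rw [h3]
    · exfalso
      have h3 : p * w1 * p⁻¹ = w1 * z := by
        rw [h1, mul_assoc, h2]; group
      have h4 : ∀ k : ℕ, p ^ k * w1 * (p ^ k)⁻¹ = w1 * z ^ k := by
        intro k
        induction k with
        | zero => simp
        | succ k ih =>
          calc p ^ (k + 1) * w1 * (p ^ (k + 1))⁻¹ = p * (p ^ k * w1 * (p ^ k)⁻¹) * p⁻¹ := by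
                rw [pow_succ']; group
            _ = p * (w1 * z ^ k) * p⁻¹ := by rw [ih]
            _ = p * w1 * (z ^ k * p⁻¹) := by group
            _ = p * w1 * (p⁻¹ * z ^ k) := by
                rw [(((show Commute p z from hpz).pow_right k).inv_left).eq]
            _ = (p * w1 * p⁻¹) * z ^ k := by group
            _ = w1 * z ^ (k + 1) := by rw [h3, pow_succ']; group
      have h5 := h4 5
      rw [hp] at h5
      have hz2 : z ^ 2 = 1 := by rw [pow_two]; exact h.z_sq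
      have h6 : z ^ 5 = z := by
        calc z ^ 5 = (z ^ 2) ^ 2 * z := by rw [← pow_mul, ← pow_succ]
          _ = z := by rw [hz2, one_pow, one_mul]
      rw [h6] at h5
      apply h.z_ne
      have h7 : w1 = w1 * z := by simpa using h5
      exact (mul_left_cancel (a := w1) (by rw [mul_one]; exact h7)).symm
  have hmem : p * s ∈ Subgroup.closure ({p * s, w1} : Set G) := Subgroup.subset_closure (Or.inl rfl)
  refine ⟨p * s, w1, ?_, (p * s) ^ 16, Subgroup.pow_mem _ hmem 16, ?_⟩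
  · calc z = w1 * z * w1⁻¹ := by rw [h.comm_z w1 hw1Q]; group
      _ = (s * w1 * s⁻¹) * w1⁻¹ := by rw [hs2]
      _ = (p * (s * w1 * s⁻¹) * p⁻¹) * w1⁻¹ := by
          congr 1
          rw [hs2]
          calc w1 * z = (w1 * z) * p * p⁻¹ := by group
            _ = w1 * (p * z) * p⁻¹ := by rw [hpz]; group
            _ = (w1 * p) * z * p⁻¹ := by group
            _ = p * (w1 * z) * p⁻¹ := by rw [← hpw]; group
      _ = p * s * w1 * (p * s)⁻¹ * w1⁻¹ := by group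
  · have hs4 : s ^ 4 = 1 := by
      rcases h.sq s hs with e | e
      · calc s ^ 4 = (s * s) * (s * s) := by simp only [pow_succ, pow_zero, one_mul, mul_assoc]
          _ = 1 := by rw [e, one_mul]
      · calc s ^ 4 = (s * s) * (s * s) := by simp only [pow_succ, pow_zero, one_mul, mul_assoc]
          _ = 1 := by rw [e]; exact h.z_sq
    have h1 : (p * s) ^ 16 = p := by
      rw [(show Commute p s from hps).mul_pow]
      have h2 : p ^ 16 = p := by
        calc p ^ 16 = (p ^ 5) ^ 3 * p := by rw [← pow_mul, ← pow_succ]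
          _ = p := by rw [hp, one_pow, one_mul]
      have h3 : s ^ 16 = 1 := by
        calc s ^ 16 = (s ^ 4) ^ 4 := by rw [← pow_mul]
          _ = 1 := by rw [hs4, one_pow]
      rw [h2, h3, mul_one]
    rw [h1]

end

/-- a 2-element is conjugate into a subgroup of odd index -/
theorem exists_conj_mem {G : Type*} [Group G] [Finite G] {C : Subgroup G} (hC : Odd C.index) {x : G}
    (hx : ∃ k : ℕ, orderOf x = 2 ^ k) : ∃ g : G, g * x * g⁻¹ ∈ C := by
  have : Fact (Nat.Prime 2) := ⟨Nat.prime_two⟩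
  obtain ⟨k, hk⟩ := hx
  have hP : IsPGroup 2 (Subgroup.zpowers x) := IsPGroup.of_card (n := k) (by rw [Nat.card_zpowers, hk])
  have hn : ¬ 2 ∣ Nat.card (G ⧸ C) := by
    rw [← Subgroup.index_eq_card]
    rcases hC with ⟨m, hm⟩
    omega
  obtain ⟨q, hq⟩ := hP.nonempty_fixed_point_of_prime_not_dvd_card (G ⧸ C) hn
  obtain ⟨g, rfl⟩ := QuotientGroup.mk_surjective q
  have h1 := hq ⟨x, Subgroup.mem_zpowers x⟩
  have h2 : (QuotientGroup.mk (x * g) : G ⧸ C) = QuotientGroup.mk g := h1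
  rw [eq_comm, QuotientGroup.eq] at h2
  refine ⟨g⁻¹, ?_⟩
  rw [inv_inv, mul_assoc]
  exact h2

end Cfsg.Agent.H6.ORE
end
end
end
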