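import Cfsg.Agent.H263.ChermakDelgado
import Cfsg.Agent.KFacts.Co1D4.Letters
import Cfsg.Agent.LThreeCo1.Ev
import Cfsg.Agent.PreUniqCo.TrWord
import Cfsg.Agent.CoFive.Ranks
import Cfsg.Agent.StdG24.P957Of_m3
import Cfsg.Agent.KFacts.Co1.InCo1
import Cfsg.Agent.KFacts.Co1.YBig
import Cfsg.Agent.CoOneType.CoQZ
import Cfsg.Agent.CoOneType.CoW
import Cfsg.Agent.H6.ORE.LargeOre
import Cfsg.Agent.H813.CoLarge
import Cfsg.Agent.FastGrp
import Cfsg.Agent.Prune
set_option linter.all false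

section
prune_inst 0x7ffefffbeff8bfffffff7e7fffffdffffffdffffefdff9fbfffdffffbfff6b7fabedfbafefefdafebef6e23cb0f87b53fffffeffeb6fdd7ffffd5ff45fffffdfffffbd2d71ffbcbe1ffe6ffffbfbffee7f3fffffffffffffffffffffffffffffffbfffffffff

-- part: H812/CoFiveData
section
prune_inst 0x100001006400000000000000000000002000000000200000000004000008010000000100020014000008200000000000000000400000000000000000000000000000000000000000000000000000000000000000000000000000000000000004000000000
set_option linter.all false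
open scoped Cfsg.Agent.FastGrp

-- part: H812/FiveSyl
section
/-!
# Elements of order five acting on a group of order 512 (helper812)

`C` contains a normal subgroup `Q` of order 512; `p`, `q` are commuting elements of order five of `C` generating a
Sylow 5-subgroup of `C`, both centralize more than `{1, z}` in `Q`.  Then every element of order five of `C` with
`|C_Q(b)| = 32` is conjugate in `C` to a power of `p` or of `q`.
-/

set_option autoImplicit false

namespace Cfsg.Agent.H812.FiveSyl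

open Subgroup
open scoped Pointwise

variable {G : Type*} [Group G] [Finite G]

/-- a subgroup of prime order is conjugate into a `p`-subgroup of index prime to `p` -/
theorem exists_mem {C S : Subgroup G} {p : ℕ} (hp : p.Prime) (hS : IsPGroup p S)
    (hidx : ¬ p ∣ S.relIndex C) {x : G} (hx : orderOf x = p) (hxC : x ∈ C) : ∃ c ∈ C, c * x * c⁻¹ ∈ S := by
  have : Fact p.Prime := ⟨hp⟩
  have hS' : IsPGroup p (S.subgroupOf C) := hS.comap_of_injective C.subtype Subtype.val_injective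
  have hX' : IsPGroup p (zpowers (⟨x, hxC⟩ : C)) :=
    IsPGroup.of_card (n := 1) (by rw [Nat.card_zpowers, Subgroup.orderOf_mk, hx, pow_one])
  obtain ⟨Q, hQ⟩ := hX'.exists_le_sylow
  obtain ⟨c, hc⟩ := MulAction.exists_smul_eq C Q (hS'.toSylow hidx)
  refine ⟨c, c.2, ?_⟩
  have h1 : (⟨x, hxC⟩ : C) ∈ (Q : Subgroup C) := hQ (mem_zpowers _)
  have h2 : c * ⟨x, hxC⟩ * c⁻¹ ∈ ((c • Q : Sylow p C) : Subgroup C) := by
    have : c * ⟨x, hxC⟩ * c⁻¹ = (MulAut.conj c) • (⟨x, hxC⟩ : C) := rfl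
    rw [this]
    exact Subgroup.smul_mem_pointwise_smul _ _ _ h1
  rw [hc] at h2
  exact Subgroup.mem_subgroupOf.1 h2

/-- the order of the centralizer of a group of order a power of five in a group of order 512 -/
theorem card_cent_mod {Q P : Subgroup G} (h512 : Nat.card Q = 512) (hP : IsPGroup 5 P)
    (hn : ∀ p ∈ P, ∀ q ∈ Q, p * q * p⁻¹ ∈ Q) :
    Nat.card ↥(Q ⊓ centralizer (P : Set G)) = 2 ∨ Nat.card ↥(Q ⊓ centralizer (P : Set G)) = 32 ∨
      Nat.card ↥(Q ⊓ centralizer (P : Set G)) = 512 := by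
  have : Fact (Nat.Prime 5) := ⟨by norm_num⟩
  let _ : MulAction P Q :=
    { smul := fun p q => ⟨p * q * (p : G)⁻¹, hn p p.2 q q.2⟩
      one_smul := fun q => Subtype.ext (by
        show (1 : G) * q * (1 : G)⁻¹ = q
        group)
      mul_smul := fun a b q => Subtype.ext (by
        show ((a : G) * b) * q * ((a : G) * b)⁻¹ = a * (b * q * (b : G)⁻¹) * (a : G)⁻¹
        group) }
  have hsm : ∀ (p : P) (q : Q), ((p • q : Q) : G) = p * q * (p : G)⁻¹ := fun _ _ => rfl
  have h1 := hP.card_modEq_card_fixedPoints Q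
  have h2 : Nat.card (MulAction.fixedPoints P Q) = Nat.card ↥(Q ⊓ centralizer (P : Set G)) := by
    refine Nat.card_congr ⟨fun x => ⟨x.1, x.1.2, ?_⟩, fun x => ⟨⟨x.1, x.2.1⟩, ?_⟩, fun x => rfl, fun x => rfl⟩
    · show (x.1 : G) ∈ centralizer (P : Set G)
      rw [mem_centralizer_iff]
      intro p hp
      have h3 := congrArg Subtype.val (x.2 ⟨p, hp⟩)
      rw [hsm] at h3
      exact mul_inv_eq_iff_eq_mul.1 h3
    · intro p
      apply Subtype.ext
      rw [hsm]
      have h3 := mem_centralizer_iff.1 x.2.2 p p.2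
      show (p : G) * x.1 * (p : G)⁻¹ = x.1
      rw [h3]; group
  rw [h2, h512] at h1
  have h3 : Nat.card ↥(Q ⊓ centralizer (P : Set G)) ∣ 512 := by
    rw [← h512]; exact card_dvd_of_le inf_le_left
  generalize Nat.card ↥(Q ⊓ centralizer (P : Set G)) = n at h1 h3
  have h4 : n ∈ Nat.divisors 512 := Nat.mem_divisors.2 ⟨h3, by norm_num⟩
  have h5 : ∀ n ∈ Nat.divisors 512, 512 % 5 = n % 5 → n = 2 ∨ n = 32 ∨ n = 512 := by decide +kernel
  exact h5 n h4 h1

/-- the data -/
structure Dat (Q C : Subgroup G) (z p q : G) : Prop where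
  h512 : Nat.card Q = 512
  zz : z * z = 1
  nor : ∀ c ∈ C, ∀ x ∈ Q, c * x * c⁻¹ ∈ Q
  zC : ∀ c ∈ C, c * z = z * c
  zQ : z ∈ Q
  z1 : z ≠ 1
  pC : p ∈ C
  qC : q ∈ C
  p5 : p ^ 5 = 1
  q5 : q ^ 5 = 1
  pq : p * q = q * p
  /-- elements of `Q` commuting with `p`, `q` -/
  ex : ∃ s ∈ Q, s ≠ 1 ∧ s ≠ z ∧ s * p = p * s ∧ s * q ≠ q * s
  ex' : ∃ s ∈ Q, s ≠ 1 ∧ s ≠ z ∧ s * q = q * s ∧ s * p ≠ p * s
  idx : Nat.card C = 89181388800
  QC : Q ≤ C

namespace Dat

variable {Q C : Subgroup G} {z p q : G} (D : Dat Q C z p q)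
include D

/-- the group `⟨p, q⟩` -/
def P : Subgroup G where
  carrier := {x | ∃ i j : ℕ, x = p ^ i * q ^ j}
  one_mem' := ⟨0, 0, by simp⟩
  mul_mem' := by
    rintro _ _ ⟨a, b, rfl⟩ ⟨c, d, rfl⟩
    refine ⟨a + c, b + d, ?_⟩
    have h : q ^ b * p ^ c = p ^ c * q ^ b := ((show Commute p q from D.pq).pow_pow c b).eq.symm
    calc p ^ a * q ^ b * (p ^ c * q ^ d) = p ^ a * (q ^ b * p ^ c) * q ^ d := by group
      _ = p ^ (a + c) * q ^ (b + d) := by rw [h, pow_add, pow_add]; group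
  inv_mem' := by
    rintro _ ⟨a, b, rfl⟩
    refine ⟨4 * a, 4 * b, ?_⟩
    apply inv_eq_of_mul_eq_one_right
    have h : q ^ b * p ^ (4 * a) = p ^ (4 * a) * q ^ b := ((show Commute p q from D.pq).pow_pow _ b).eq.symm
    calc p ^ a * q ^ b * (p ^ (4 * a) * q ^ (4 * b)) = p ^ a * (q ^ b * p ^ (4 * a)) * q ^ (4 * b) := by group
      _ = (p ^ a * p ^ (4 * a)) * (q ^ b * q ^ (4 * b)) := by rw [h]; group
      _ = (p ^ 5) ^ a * (q ^ 5) ^ b := by
        rw [← pow_add, ← pow_add, ← pow_mul, ← pow_mul]; congr 2 <;> ring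
      _ = 1 := by rw [D.p5, D.q5, one_pow, one_pow, one_mul]

theorem mem_P {x : G} : x ∈ D.P ↔ ∃ i j : ℕ, x = p ^ i * q ^ j := Iff.rfl

omit [Finite G] D in
theorem pow_mod {x : G} (h : x ^ 5 = 1) (i : ℕ) : x ^ i = x ^ (i % 5) := by
  conv_lhs => rw [← Nat.div_add_mod i 5, pow_add, pow_mul, h, one_pow, one_mul]

omit [Finite G] D in
/-- a power with exponent prime to five generates -/
theorem pow_pow_eq {x : G} (h : x ^ 5 = 1) {i : ℕ} (hi : i % 5 ≠ 0) : ∃ k : ℕ, (x ^ i) ^ k = x := by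
  have h1 : ∃ k : ℕ, i * k % 5 = 1 := by
    have h2 : i % 5 < 5 := Nat.mod_lt _ (by norm_num)
    have h3 : ∀ m < 5, m ≠ 0 → ∃ k < 5, m * k % 5 = 1 := by decide
    obtain ⟨k, -, hk⟩ := h3 (i % 5) h2 hi
    exact ⟨k, by rw [Nat.mul_mod, Nat.mod_mod] at hk; rwa [Nat.mul_mod]⟩
  obtain ⟨k, hk⟩ := h1
  refine ⟨k, ?_⟩
  rw [← pow_mul, pow_mod h, hk, pow_one]

theorem PC : D.P ≤ C := by
  rintro _ ⟨i, j, rfl⟩
  exact C.mul_mem (C.pow_mem D.pC i) (C.pow_mem D.qC j)

/-- a power of `p` which is a power of `q` is trivial -/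
theorem ind {i j : ℕ} (h : p ^ i * q ^ j = 1) : i % 5 = 0 ∧ j % 5 = 0 := by
  obtain ⟨s, -, -, -, hsp, hsq⟩ := D.ex
  obtain ⟨t, -, -, -, htq, htp⟩ := D.ex'
  constructor
  · by_contra hi
    obtain ⟨k, hk⟩ := pow_pow_eq D.p5 hi
    apply htp
    have h1 : p ^ i = (q ^ j)⁻¹ := eq_inv_of_mul_eq_one_left h
    have h2 : Commute t p := by
      rw [← hk, h1]
      exact (((show Commute t q from htq).pow_right j).inv_right).pow_right k
    exact h2
  · by_contra hj
    obtain ⟨k, hk⟩ := pow_pow_eq D.q5 hj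
    apply hsq
    have h1 : q ^ j = (p ^ i)⁻¹ := eq_inv_of_mul_eq_one_right h
    have h2 : Commute s q := by
      rw [← hk, h1]
      exact (((show Commute s p from hsp).pow_right i).inv_right).pow_right k
    exact h2

theorem card_P : Nat.card D.P = 25 := by
  have h1 : Function.Bijective (fun x : Fin 5 × Fin 5 => (⟨p ^ x.1.val * q ^ x.2.val, x.1.val, x.2.val, rfl⟩ : D.P)) := by
    constructor
    · rintro ⟨a, b⟩ ⟨c, d⟩ h
      have h2 : p ^ a.val * q ^ b.val = p ^ c.val * q ^ d.val := congrArg Subtype.val h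
      have h3 : p ^ (a.val + 4 * c.val) * q ^ (b.val + 4 * d.val) = 1 := by
        have e : q ^ b.val * p ^ (4 * c.val) = p ^ (4 * c.val) * q ^ b.val :=
          ((show Commute p q from D.pq).pow_pow _ _).eq.symm
        have e' : q ^ d.val * p ^ (4 * c.val) = p ^ (4 * c.val) * q ^ d.val :=
          ((show Commute p q from D.pq).pow_pow _ _).eq.symm
        calc p ^ (a.val + 4 * c.val) * q ^ (b.val + 4 * d.val)
            = p ^ a.val * (p ^ (4 * c.val) * q ^ b.val) * q ^ (4 * d.val) := by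
              rw [pow_add, pow_add]; group
          _ = (p ^ a.val * q ^ b.val) * (p ^ (4 * c.val) * q ^ (4 * d.val)) := by rw [← e]; group
          _ = p ^ c.val * (q ^ d.val * p ^ (4 * c.val)) * q ^ (4 * d.val) := by rw [h2]; group
          _ = (p ^ c.val * p ^ (4 * c.val)) * (q ^ d.val * q ^ (4 * d.val)) := by rw [e']; group
          _ = (p ^ 5) ^ c.val * (q ^ 5) ^ d.val := by
            rw [← pow_add, ← pow_add, ← pow_mul, ← pow_mul]; congr 2 <;> ring
          _ = 1 := by rw [D.p5, D.q5, one_pow, one_pow, one_mul]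
      obtain ⟨h4, h5⟩ := D.ind h3
      have ha := a.isLt
      have hb := b.isLt
      have hc := c.isLt
      have hd := d.isLt
      have e1 : a.val = c.val := by omega
      have e2 : b.val = d.val := by omega
      exact Prod.ext (Fin.ext e1) (Fin.ext e2)
    · rintro ⟨x, i, j, rfl⟩
      refine ⟨(⟨i % 5, Nat.mod_lt _ (by norm_num)⟩, ⟨j % 5, Nat.mod_lt _ (by norm_num)⟩), Subtype.ext ?_⟩
      show p ^ (i % 5) * q ^ (j % 5) = p ^ i * q ^ j
      rw [← pow_mod D.p5, ← pow_mod D.q5]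
  rw [← Nat.card_eq_of_bijective _ h1, Nat.card_prod, Nat.card_fin]

theorem isPGroup_P : IsPGroup 5 D.P := IsPGroup.of_card (n := 2) (by rw [D.card_P]; norm_num)

theorem relIndex : ¬ 5 ∣ D.P.relIndex C := by
  have h1 := card_mul_index (D.P.subgroupOf C)
  rw [D.idx, Nat.card_congr (subgroupOfEquivOfLe D.PC).toEquiv, D.card_P] at h1
  change 25 * D.P.relIndex C = 89181388800 at h1
  intro h
  obtain ⟨k, hk⟩ := h
  rw [hk] at h1
  omega

/-- the centralizer in `Q` of an element -/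
def E (_ : Dat Q C z p q) (x : G) : Subgroup G := Q ⊓ centralizer {x}

theorem mem_E {x y : G} : y ∈ D.E x ↔ y ∈ Q ∧ y * x = x * y := by
  rw [E, mem_inf, mem_centralizer_singleton_iff]

theorem nQ {x : G} (hx : x ∈ D.P) : ∀ y ∈ Q, x * y * x⁻¹ ∈ Q := D.nor x (D.PC hx)

/-- the order of `C_Q(R)` for `R ≤ P` -/
theorem card_R {R : Subgroup G} (hR : R ≤ D.P) :
    Nat.card ↥(Q ⊓ centralizer (R : Set G)) = 2 ∨ Nat.card ↥(Q ⊓ centralizer (R : Set G)) = 32 ∨
      Nat.card ↥(Q ⊓ centralizer (R : Set G)) = 512 :=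
  card_cent_mod D.h512 (D.isPGroup_P.to_le hR) fun x hx => D.nQ (hR hx)

theorem E_eq (x : G) : D.E x = Q ⊓ centralizer ((zpowers x : Subgroup G) : Set G) := by
  rw [E]
  congr 1
  exact (centralizer_zpowers' x).symm
where
  centralizer_zpowers' (x : G) : centralizer ((zpowers x : Subgroup G) : Set G) = centralizer {x} := by
    ext y
    rw [mem_centralizer_iff, mem_centralizer_singleton_iff]
    constructor
    · intro h; exact (h x (mem_zpowers x)).symm
    · rintro h _ ⟨k, rfl⟩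
      exact ((show Commute y x from h).zpow_right k).eq.symm

theorem card_E {x : G} (hx : x ∈ D.P) : Nat.card (D.E x) = 2 ∨ Nat.card (D.E x) = 32 ∨ Nat.card (D.E x) = 512 := by
  rw [D.E_eq]
  exact D.card_R (by rw [zpowers_le]; exact hx)

theorem z_mem {x : G} (hx : x ∈ D.P) : z ∈ D.E x := D.mem_E.2 ⟨D.zQ, (D.zC x (D.PC hx)).symm⟩

/-- a subgroup of order two containing `z` -/
theorem eq_of_two {H : Subgroup G} (h2 : Nat.card H = 2) (hz : z ∈ H) {x : G} (hx : x ∈ H) : x = 1 ∨ x = z := by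
  obtain ⟨y, -, hy⟩ := (Nat.card_eq_two_iff' (1 : H)).1 h2
  by_cases h1 : x = 1
  · exact Or.inl h1
  · right
    have e1 := hy ⟨x, hx⟩ (fun h => h1 (congrArg Subtype.val h))
    have e2 := hy ⟨z, hz⟩ (fun h => D.z1 (congrArg Subtype.val h))
    exact congrArg Subtype.val (e1.trans e2.symm)

theorem card_Ep : Nat.card (D.E p) = 32 := by
  obtain ⟨s, hsQ, hs1, hsz, hsp, -⟩ := D.ex
  obtain ⟨t, htQ, -, -, -, htp⟩ := D.ex'
  have hp : p ∈ D.P := ⟨1, 0, by simp⟩
  rcases D.card_E hp with h | h | h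
  · rcases D.eq_of_two h (D.z_mem hp) (D.mem_E.2 ⟨hsQ, hsp⟩) with h | h
    · exact absurd h hs1
    · exact absurd h hsz
  · exact h
  · exfalso
    have h1 : D.E p = Q := eq_of_le_of_card_ge inf_le_left (by rw [h, D.h512])
    have h2 : t ∈ D.E p := by rw [h1]; exact htQ
    exact htp (D.mem_E.1 h2).2

/-- interchange of `p` and `q` -/
theorem swap : Dat Q C z q p where
  h512 := D.h512
  zz := D.zz
  nor := D.nor
  zC := D.zC
  zQ := D.zQ
  z1 := D.z1
  pC := D.qC
  qC := D.pC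
  p5 := D.q5
  q5 := D.p5
  pq := D.pq.symm
  ex := D.ex'
  ex' := D.ex
  idx := D.idx
  QC := D.QC

/-- `C_Q(⟨p, q⟩) = {1, z}` -/
theorem inter {x : G} (hx : x ∈ Q) (hp : x * p = p * x) (hq : x * q = q * x) : x = 1 ∨ x = z := by
  have hle : ∀ y ∈ Q, y ∈ Q ⊓ centralizer (D.P : Set G) ↔ y * p = p * y ∧ y * q = q * y := by
    intro y hy
    rw [mem_inf, mem_centralizer_iff]
    constructor
    · rintro ⟨-, h⟩
      exact ⟨(h p ⟨1, 0, by simp⟩).symm, (h q ⟨0, 1, by simp⟩).symm⟩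
    · rintro ⟨h1, h2⟩
      refine ⟨hy, ?_⟩
      rintro _ ⟨i, j, rfl⟩
      exact (((show Commute y p from h1).pow_right i).mul_right ((show Commute y q from h2).pow_right j)).eq.symm
  have hsub : Q ⊓ centralizer (D.P : Set G) ≤ D.E p := by
    intro y hy
    exact D.mem_E.2 ⟨hy.1, ((hle y hy.1).1 hy).1⟩
  obtain ⟨s, hsQ, -, -, hsp, hsq⟩ := D.ex
  rcases D.card_R (le_refl D.P) with h | h | h
  · exact D.eq_of_two h ((hle z D.zQ).2 ⟨(D.zC p D.pC).symm, (D.zC q D.qC).symm⟩) ((hle x hx).2 ⟨hp, hq⟩)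
  · exfalso
    have h1 : Q ⊓ centralizer (D.P : Set G) = D.E p := eq_of_le_of_card_ge hsub (by rw [h, D.card_Ep])
    have h2 : s ∈ Q ⊓ centralizer (D.P : Set G) := by rw [h1]; exact D.mem_E.2 ⟨hsQ, hsp⟩
    exact hsq ((hle s hsQ).1 h2).2
  · exfalso
    have h1 := card_le_of_le hsub
    rw [h, D.card_Ep] at h1
    omega

/-- if `y ∈ Q` and `[q, y] ∈ {1, z}` then `q` commutes with `y` -/
theorem comm_of {y : G} (h : q * y * q⁻¹ = y ∨ q * y * q⁻¹ = y * z) : y * q = q * y := by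
  rcases h with h | h
  · exact (mul_inv_eq_iff_eq_mul.1 h).symm
  · have h1 : q * y = y * z * q := mul_inv_eq_iff_eq_mul.1 h
    have hz := D.zC q D.qC
    have h2 : q * q * y = y * (q * q) := by
      calc q * q * y = q * (q * y) := by group
        _ = q * (y * z * q) := by rw [h1]
        _ = q * y * z * q := by simp only [mul_assoc]
        _ = y * z * q * z * q := by rw [h1]
        _ = y * z * (q * z) * q := by simp only [mul_assoc]
        _ = y * (z * z) * q * q := by rw [hz]; simp only [mul_assoc]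
        _ = y * (q * q) := by rw [D.zz, mul_one, mul_assoc]
    have h3 : Commute (q * q) y := h2
    have h4 : (q * q) ^ 3 = q := by
      have : (q * q) ^ 3 = q ^ 5 * q := by rw [← pow_two, ← pow_mul, ← pow_succ]
      rw [this, D.q5, one_mul]
    have h5 := h3.pow_left 3
    rw [h4] at h5
    exact h5.eq.symm

/-- the main step -/
theorem zero_of {i j : ℕ} (h32 : Nat.card (D.E (p ^ i * q ^ j)) = 32) : i % 5 = 0 ∨ j % 5 = 0 := by
  by_contra hcon
  push Not at hcon
  obtain ⟨hi, hj⟩ := hcon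
  set g := p ^ i * q ^ j with hg
  obtain ⟨k, hk⟩ := pow_pow_eq D.p5 hi
  obtain ⟨l, hl⟩ := pow_pow_eq D.q5 hj
  obtain ⟨t, htQ, ht1, htz, htq, htp⟩ := D.ex'
  -- elements commuting with `g` and `p`
  have hgp : ∀ y, y * g = g * y → y * p = p * y → y * q = q * y := by
    intro y h1 h2
    have h3 : Commute y (q ^ j) := by
      have e : q ^ j = (p ^ i)⁻¹ * g := by rw [hg]; group
      rw [e]
      exact (((show Commute y p from h2).pow_right i).inv_right).mul_right (show Commute y g from h1)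
    have h4 := h3.pow_right l
    rw [hl] at h4
    exact h4
  have hgq : ∀ y, y * g = g * y → y * q = q * y → y * p = p * y := by
    intro y h1 h2
    have h3 : Commute y (p ^ i) := by
      have e : p ^ i = g * (q ^ j)⁻¹ := by rw [hg]; group
      rw [e]
      exact (show Commute y g from h1).mul_right (((show Commute y q from h2).pow_right j).inv_right)
    have h4 := h3.pow_right k
    rw [hk] at h4
    exact h4
  have hqp : q * p = p * q := D.pq.symm
  have hqg : q * g = g * q := by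
    have h1 : Commute q g := ((show Commute q p from hqp).pow_right i).mul_right ((Commute.refl q).pow_right j)
    exact h1
  -- `E p ⊓ E g = {1, z}`
  have hint : ∀ y ∈ D.E p ⊓ D.E g, y = 1 ∨ y = z := by
    intro y hy
    obtain ⟨h1, h2⟩ := D.mem_E.1 hy.1
    obtain ⟨-, h3⟩ := D.mem_E.1 hy.2
    exact D.inter h1 h2 (hgp y h3 h2)
  have hcard2 : Nat.card ↥(D.E p ⊓ D.E g) ≤ 2 := by
    classical
    have h1 : ((D.E p ⊓ D.E g : Subgroup G) : Set G) ⊆ ({1, z} : Finset G) := by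
      intro y hy
      rcases hint y hy with h | h
      · simp [h]
      · simp [h]
    have h2 := Set.ncard_le_ncard h1 (Finset.finite_toSet _)
    rw [Set.ncard_coe_finset] at h2
    have h4 : ({1, z} : Finset G).card ≤ 2 := Finset.card_le_two
    exact h2.trans h4
  have hmul := H263.ChermakDelgado.ncard_mul_inf (D.E p) (D.E g)
  rw [D.card_Ep, h32] at hmul
  have hsub : ((D.E p : Set G) * (D.E g : Set G)) ⊆ (Q : Set G) := by
    rintro _ ⟨a, ha, b, hb, rfl⟩
    exact Q.mul_mem (D.mem_E.1 ha).1 (D.mem_E.1 hb).1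
  have hle : ((D.E p : Set G) * (D.E g : Set G)).ncard ≤ 512 := by
    have h1 := Set.ncard_le_ncard hsub (Set.toFinite _)
    have h2 : (Q : Set G).ncard = 512 := by rw [← D.h512]; exact (Nat.card_coe_set_eq _).symm
    omega
  have heq : ((D.E p : Set G) * (D.E g : Set G)) = (Q : Set G) := by
    apply Set.eq_of_subset_of_ncard_le hsub _ (Set.toFinite _)
    have h2 : (Q : Set G).ncard = 512 := by rw [← D.h512]; exact (Nat.card_coe_set_eq _).symm
    rw [h2]
    generalize Nat.card ↥(D.E p ⊓ D.E g) = n at hmul hcard2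
    generalize ((D.E p : Set G) * (D.E g : Set G)).ncard = m at hmul hle
    interval_cases n <;> omega
  obtain ⟨a, ha, b, hb, hab⟩ : t ∈ ((D.E p : Set G) * (D.E g : Set G)) := by rw [heq]; exact htQ
  have hab' : a * b = t := hab
  obtain ⟨haQ, hap⟩ := D.mem_E.1 ha
  obtain ⟨hbQ, hbg⟩ := D.mem_E.1 hb
  -- conjugates
  have hconj : ∀ u v : G, q * v = v * q → u * v = v * u → (q * u * q⁻¹) * v = v * (q * u * q⁻¹) := by
    intro u v h1 h2
    have h3 : q⁻¹ * v = v * q⁻¹ := ((show Commute q v from h1).inv_left).eq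
    calc (q * u * q⁻¹) * v = q * u * (q⁻¹ * v) := by group
      _ = q * (u * v) * q⁻¹ := by rw [h3]; group
      _ = (q * v) * u * q⁻¹ := by rw [h2]; group
      _ = v * (q * u * q⁻¹) := by rw [h1]; group
  have ha' : q * a * q⁻¹ ∈ D.E p := D.mem_E.2 ⟨D.nor q D.qC a haQ, hconj a p hqp hap⟩
  have hb' : q * b * q⁻¹ ∈ D.E g := D.mem_E.2 ⟨D.nor q D.qC b hbQ, hconj b g hqg hbg⟩
  have ht' : (q * a * q⁻¹) * (q * b * q⁻¹) = a * b := by
    have h1 : q * t * q⁻¹ = t := by rw [← htq]; group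
    calc (q * a * q⁻¹) * (q * b * q⁻¹) = q * (a * b) * q⁻¹ := by group
      _ = a * b := by rw [hab', h1]
  have hkey : a⁻¹ * (q * a * q⁻¹) = b * (q * b * q⁻¹)⁻¹ := by
    calc a⁻¹ * (q * a * q⁻¹) = a⁻¹ * ((q * a * q⁻¹) * (q * b * q⁻¹)) * (q * b * q⁻¹)⁻¹ := by group
      _ = b * (q * b * q⁻¹)⁻¹ := by rw [ht']; group
  have hmem : a⁻¹ * (q * a * q⁻¹) ∈ D.E p ⊓ D.E g :=
    ⟨(D.E p).mul_mem ((D.E p).inv_mem ha) ha', by
      rw [hkey]; exact (D.E g).mul_mem hb ((D.E g).inv_mem hb')⟩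
  have haq : a * q = q * a := by
    apply D.comm_of
    rcases hint _ hmem with h | h
    · left; rw [inv_mul_eq_iff_eq_mul] at h; rw [h, mul_one]
    · right; rw [inv_mul_eq_iff_eq_mul] at h; exact h
  have hbq : b * q = q * b := by
    apply D.comm_of
    rcases hint _ hmem with h | h
    · left
      rw [hkey, mul_inv_eq_one] at h
      exact h.symm
    · right
      rw [hkey, mul_inv_eq_iff_eq_mul] at h
      calc q * b * q⁻¹ = z * z * (q * b * q⁻¹) := by rw [D.zz, one_mul]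
        _ = z * (z * (q * b * q⁻¹)) := by rw [mul_assoc]
        _ = z * b := by rw [← h]
        _ = b * z := (D.zC b (D.QC hbQ)).symm
  rcases D.inter haQ hap haq with h1 | h1 <;> rcases D.inter hbQ (hgq b hbg hbq) hbq with h2 | h2 <;>
    rw [h1, h2] at hab'
  · exact ht1 (by rw [← hab', one_mul])
  · exact htz (by rw [← hab', one_mul])
  · exact htz (by rw [← hab', mul_one])
  · exact ht1 (by rw [← hab', D.zz])

/-- **An element of order five with `|C_Q(b)| = 32` is conjugate to a power of `p` or of `q`.** -/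
theorem main {b : G} (hb : orderOf b = 5) (hbC : b ∈ C) (h32 : Nat.card ↥(Q ⊓ centralizer ({b} : Set G)) = 32) :
    ∃ c ∈ C, ∃ i : ℕ, i % 5 ≠ 0 ∧ (c * b * c⁻¹ = p ^ i ∨ c * b * c⁻¹ = q ^ i) := by
  obtain ⟨c, hc, i, j, hij⟩ := exists_mem (p := 5) (by norm_num) D.isPGroup_P D.relIndex hb hbC
  have hb1 : b ≠ 1 := by
    rintro rfl
    rw [orderOf_one] at hb
    omega
  have h1 : Nat.card (D.E (p ^ i * q ^ j)) = 32 := by
    rw [← h32, ← hij]
    symm
    refine Nat.card_congr ⟨fun x => ⟨c * x * c⁻¹, ?_⟩, fun x => ⟨c⁻¹ * x * c, ?_⟩, fun x => Subtype.ext (by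
      show c⁻¹ * (c * x * c⁻¹) * c = x
      group), fun x => Subtype.ext (by
      show c * (c⁻¹ * x * c) * c⁻¹ = x
      group)⟩
    · have hx := mem_centralizer_singleton_iff.1 x.2.2
      refine D.mem_E.2 ⟨D.nor c hc x x.2.1, ?_⟩
      calc c * (x : G) * c⁻¹ * (c * b * c⁻¹) = c * (x * b) * c⁻¹ := by group
        _ = c * b * c⁻¹ * (c * x * c⁻¹) := by rw [hx]; group
    · obtain ⟨hx1, hx2⟩ := D.mem_E.1 x.2
      have h3 := D.nor c⁻¹ (C.inv_mem hc) x hx1
      rw [inv_inv] at h3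
      refine ⟨h3, mem_centralizer_singleton_iff.2 ?_⟩
      calc c⁻¹ * (x : G) * c * b = c⁻¹ * (x * (c * b * c⁻¹)) * c := by group
        _ = b * (c⁻¹ * x * c) := by rw [hx2]; group
  rcases D.zero_of h1 with h | h
  · refine ⟨c, hc, j, ?_, Or.inr ?_⟩
    · intro hj
      apply hb1
      have h2 : c * b * c⁻¹ = 1 := by
        rw [hij, pow_mod D.p5 i, pow_mod D.q5 j, h, hj, pow_zero, pow_zero, one_mul]
      have h3 : b = c⁻¹ * (c * b * c⁻¹) * c := by group
      rw [h3, h2]; group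
    · rw [hij, pow_mod D.p5 i, h, pow_zero, one_mul]
  · refine ⟨c, hc, i, ?_, Or.inl ?_⟩
    · intro hi
      apply hb1
      have h2 : c * b * c⁻¹ = 1 := by
        rw [hij, pow_mod D.p5 i, pow_mod D.q5 j, h, hi, pow_zero, pow_zero, one_mul]
      have h3 : b = c⁻¹ * (c * b * c⁻¹) * c := by group
      rw [h3, h2]; group
    · rw [hij, pow_mod D.q5 j, h, pow_zero, mul_one]

end Dat

end Cfsg.Agent.H812.FiveSyl
end

-- part: H812/CoFiveData
section
/-!
# Two commuting elements of order five of `Co₁` in the centralizer of an octad involution (helper812)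

`p1 = (v2 d)²` commutes with the letters `s, t, x, y, g h, g f` of `CoOneType.Model`; `p2 = x g h x⁻¹ y g f y⁻¹`.
Both have no fixed points on `Λ / 2Λ`.
-/

set_option autoImplicit false
set_option maxRecDepth 20000

namespace Cfsg.Agent.H812.CoFiveData

open Cfsg Cfsg.Agent.SporadicA Cfsg.Agent.SporadicStructure.Co0Matrix Cfsg.Agent.CoOneType.CoEval
  Cfsg.Agent.CoOneType
open Cfsg.Agent.LThreeCo1.Ev
open Cfsg.Agent.SporadicA.Co0Mono (signCo0 permCo0 signCo0_add signCo0_smul signCo0_mul_self)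
open Cfsg.Agent.SporadicA.Co1Simple (allOne)
open Cfsg.Agent.CoOneType.SignFacts (sup mem_sup notMem_sup wt sup_add_allOne)
open Cfsg.Agent.CoOneType.GenCrit (c0 m0)
open Cfsg.Agent.CoOneType.MonoWord (cw mono_eq)

/-- diagonal matrix with a given mask -/
def dg (m : ℕ) : List (List ℤ) :=
  (List.range 24).map fun i => (List.range 24).map fun j =>
    if Nat.beq i j then (if m.testBit i then -8 else 8) else 0

theorem ok_q : Ok (dg 3050016) (dg 3050016) := CoFast.ok_of_okZ (by exact Cfsg.Agent.CoOneType.CoQ.okz_of (by decide +kernel))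

/-- The matrices: `0 … 14` as in `CoSide`, `15` a sign change, `20 … 25` the letters of `Co1D4.Letters`. -/
def M : ℕ → List (List ℤ)
  | 15 => dg 3050016
  | 20 => KFacts.Co1D4.Letters.M 0
  | 21 => KFacts.Co1D4.Letters.M 1
  | 22 => KFacts.Co1D4.Letters.M 2
  | 23 => KFacts.Co1D4.Letters.M 3
  | 24 => KFacts.Co1D4.Letters.M 4
  | 25 => KFacts.Co1D4.Letters.M 5
  | i => StdG24.CoSide.M i

/-- The letters in `Co0`. -/
def e : ℕ → Co0
  | 15 => mk ok_q
  | 20 => KFacts.Co1D4.Letters.e 0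
  | 21 => KFacts.Co1D4.Letters.e 1
  | 22 => KFacts.Co1D4.Letters.e 2
  | 23 => KFacts.Co1D4.Letters.e 3
  | 24 => KFacts.Co1D4.Letters.e 4
  | 25 => KFacts.Co1D4.Letters.e 5
  | i => StdG24.CoSide.e i

theorem hM : ∀ i, Rep (e i) (M i) := by
  intro i
  by_cases h15 : i = 15
  · subst h15; exact rep_mk ok_q
  by_cases h0 : i = 20
  · subst h0; exact KFacts.Co1D4.Letters.hM 0
  by_cases h1 : i = 21
  · subst h1; exact KFacts.Co1D4.Letters.hM 1
  by_cases h2 : i = 22
  · subst h2; exact KFacts.Co1D4.Letters.hM 2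
  by_cases h3 : i = 23
  · subst h3; exact KFacts.Co1D4.Letters.hM 3
  by_cases h4 : i = 24
  · subst h4; exact KFacts.Co1D4.Letters.hM 4
  by_cases h5 : i = 25
  · subst h5; exact KFacts.Co1D4.Letters.hM 5
  have e1 : e i = StdG24.CoSide.e i := by
    unfold e; split <;> first | rfl | (exfalso; omega)
  have e2 : M i = StdG24.CoSide.M i := by
    unfold M; split <;> first | rfl | (exfalso; omega)
  rw [e1, e2]
  exact StdG24.CoSide.hM i

/-- Value of a word in `Co0`. -/
abbrev v0 (l : List ℕ) : Co0 := (l.map e).prod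

/-- Value of a word in `Co1`. -/
abbrev val (l : List ℕ) : Spor.Co1 := (l.map fun i => pr (e i)).prod

theorem val_eq (l : List ℕ) : val l = pr (v0 l) := map_prod_pr e l

theorem val_append (a b : List ℕ) : val (a ++ b) = val a * val b := by
  unfold val; rw [List.map_append, List.prod_append]

/-- equality in `Co1` up to sign, zeros skipped -/
def sameZ (w w' : List ℕ) : Bool :=
  let l := foldZ M w betaL
  let l' := foldZ M w' betaL
  eqL l l' || eqL l (negL l')

theorem same {w w' : List ℕ} (h : sameZ w w' = true) : val w = val w' := by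
  apply eq_of_sameB hM
  unfold sameZ at h
  simp only [foldZ_eq] at h
  exact h

theorem ne_one {l : List ℕ} (h : neB M l = true) : val l ≠ 1 := ne_one_of_neB hM h

def wp1 : List ℕ := [12, 7, 12, 7]
def wp2 : List ℕ := [2, 10, 11, 3, 4, 10, 9, 5]
def w5 (l : List ℕ) : List ℕ := l ++ l ++ l ++ l ++ l

noncomputable def p1 : Spor.Co1 := val wp1
noncomputable def p2 : Spor.Co1 := val wp2

theorem k_five : (eqB M (w5 wp1) [] && eqB M (w5 wp2) []) = true := by (delta Cfsg.Agent.LThreeCo1.Ev.eqB; rewrite [Cfsg.Agent.CoOneType.CoW.of_eq Cfsg.Agent.LThreeCo1.Ev.foldZ_eq]; decide +kernel)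

theorem k_tr : PreUniqCo.TrWord.trW M wp1 = -48 ∧ PreUniqCo.TrWord.trW M wp2 = -48 := by (delta Cfsg.Agent.PreUniqCo.TrWord.trW; rewrite [Cfsg.Agent.CoOneType.CoW.of_eq Cfsg.Agent.LThreeCo1.Ev.foldZ_eq]; decide +kernel)

theorem k_comm : (sameZ (wp1 ++ wp2) (wp2 ++ wp1) && (sameZ (15 :: wp2) (wp2 ++ [15]) &&
    (sameZ (wp2 ++ [0, 1, 0, 1]) ([0, 1, 0, 1] ++ wp2)))) = true := by (delta Cfsg.Agent.H812.CoFiveData.sameZ; rewrite [Cfsg.Agent.CoOneType.CoW.of_eq Cfsg.Agent.LThreeCo1.Ev.foldZ_eq]; decide +kernel)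

theorem k_ne : (neB M ([0] ++ wp2 ++ [0] ++ wp2 ++ wp2 ++ wp2 ++ wp2) &&
    (neB M ([15] ++ wp1 ++ [15] ++ wp1 ++ wp1 ++ wp1 ++ wp1))) = true := by (delta Cfsg.Agent.CoOneType.CoEval.neB; rewrite [Cfsg.Agent.CoOneType.CoW.fold_eq]; decide +kernel)

theorem val_s : val [0] = Model.s := by
  show pr (e 0) * 1 = _
  rw [mul_one]; rfl

theorem val_q2 : val [15] = pr (e 15) := by
  show pr (e 15) * 1 = _
  rw [mul_one]

theorem p1_eq : p1 = (StdG24.CoSide.v2 * Model.d) ^ 2 := by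
  rw [pow_two, mul_assoc]
  show StdG24.CoSide.v2 * (Model.d * (StdG24.CoSide.v2 * (Model.d * 1))) = _
  rw [mul_one]

theorem prod5 {α : Type*} [Monoid α] (f : ℕ → α) (l : List ℕ) : ((w5 l).map f).prod = (l.map f).prod ^ 5 := by
  unfold w5
  rw [List.map_append, List.map_append, List.map_append, List.map_append, List.prod_append, List.prod_append,
    List.prod_append, List.prod_append]
  simp only [pow_succ, pow_zero, one_mul]

theorem lift_five : v0 wp1 ^ 5 = 1 ∧ v0 wp2 ^ 5 = 1 := by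
  have h := k_five
  rw [Bool.and_eq_true] at h
  constructor
  · rw [← prod5, eq_of_eqB hM h.1]; rfl
  · rw [← prod5, eq_of_eqB hM h.2]; rfl

theorem pow_five : p1 ^ 5 = 1 ∧ p2 ^ 5 = 1 := by
  constructor
  · rw [p1, val_eq, ← map_pow, lift_five.1, map_one]
  · rw [p2, val_eq, ← map_pow, lift_five.2, map_one]

theorem s_p2 : Model.s * p2 ≠ p2 * Model.s := by
  intro h
  have h1 := k_ne
  rw [Bool.and_eq_true] at h1
  apply ne_one h1.1
  rw [val_append, val_append, val_append, val_append, val_append, val_append, val_s]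
  change Model.s * p2 * Model.s * p2 * p2 * p2 * p2 = 1
  have h5 := pow_five.2
  have hs := Model.v_s2
  calc Model.s * p2 * Model.s * p2 * p2 * p2 * p2 = p2 * (Model.s * Model.s) * p2 * p2 * p2 * p2 := by
        rw [h]; simp only [mul_assoc]
    _ = p2 ^ 5 := by rw [hs, mul_one]; simp only [pow_succ, pow_zero, one_mul]
    _ = 1 := h5

theorem q_sq : pr (e 15) * pr (e 15) = 1 := by
  have h : sameZ [15, 15] [] = true := by (delta Cfsg.Agent.H812.CoFiveData.sameZ; rewrite [Cfsg.Agent.CoOneType.CoW.of_eq Cfsg.Agent.LThreeCo1.Ev.foldZ_eq]; decide +kernel)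
  have h1 := same h
  show pr (e 15) * pr (e 15) = 1
  have h2 : val [15, 15] = pr (e 15) * (pr (e 15) * 1) := rfl
  rw [h2, mul_one] at h1
  exact h1

theorem q_p1 : pr (e 15) * p1 ≠ p1 * pr (e 15) := by
  intro h
  have h1 := k_ne
  rw [Bool.and_eq_true] at h1
  apply ne_one h1.2
  rw [val_append, val_append, val_append, val_append, val_append, val_append, val_q2]
  change pr (e 15) * p1 * pr (e 15) * p1 * p1 * p1 * p1 = 1
  have h5 := pow_five.1
  have hs := q_sq
  calc pr (e 15) * p1 * pr (e 15) * p1 * p1 * p1 * p1 = p1 * (pr (e 15) * pr (e 15)) * p1 * p1 * p1 * p1 := by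
        rw [h]; simp only [mul_assoc]
    _ = p1 ^ 5 := by rw [hs, mul_one]; simp only [pow_succ, pow_zero, one_mul]
    _ = 1 := h5

theorem p1_p2 : p1 * p2 = p2 * p1 := by
  have h := k_comm
  rw [Bool.and_eq_true, Bool.and_eq_true] at h
  have h1 := same h.1
  rwa [val_append, val_append] at h1

theorem q_p2 : pr (e 15) * p2 = p2 * pr (e 15) := by
  have h := k_comm
  rw [Bool.and_eq_true, Bool.and_eq_true] at h
  have h1 := same h.2.1
  rw [show (15 :: wp2) = [15] ++ wp2 from rfl, val_append, val_append, val_q2] at h1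
  exact h1

/-- the involution `z = (s t)²` -/
noncomputable abbrev z : Spor.Co1 := ClosingFacts.mk (signCo0 c0)

theorem z_eq : (Model.s * Model.t) ^ 2 = z := Gen.z_eq

theorem val_z : val [0, 1, 0, 1] = z := by
  rw [← z_eq, pow_two, mul_assoc]
  show Model.s * (Model.t * (Model.s * (Model.t * 1))) = _
  rw [mul_one]

theorem z_p2 : p2 * z = z * p2 := by
  have h := k_comm
  rw [Bool.and_eq_true, Bool.and_eq_true] at h
  have h1 := same h.2.2
  rw [val_append, val_append, val_z] at h1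
  exact h1

theorem wt_c0 : wt c0 = 8 := ModelFinal.wt_c0

/-! ### `p1` commutes with the letters of the Hall–Janko group -/

theorem comm_p1 {a : Spor.Co1} (h1 : StdG24.CoSide.v2 * a = a * StdG24.CoSide.v2) (h2 : Model.d * a = a * Model.d) :
    p1 * a = a * p1 := by
  rw [p1_eq]
  exact (((show Commute StdG24.CoSide.v2 a from h1).mul_left (show Commute Model.d a from h2)).pow_left 2).eq

theorem p1_s : p1 * Model.s = Model.s * p1 := comm_p1 StdG24.CoSide.v2_s Model.p957.ds
theorem p1_t : p1 * Model.t = Model.t * p1 := comm_p1 StdG24.CoSide.v2_t Model.p957.dt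
theorem p1_x : p1 * Model.x = Model.x * p1 := comm_p1 StdG24.CoSide.v2_x Model.p957.dx
theorem p1_y : p1 * Model.y = Model.y * p1 := comm_p1 StdG24.CoSide.v2_y Model.p957.dy

theorem p1_q : p1 * (Model.g * Model.h) = (Model.g * Model.h) * p1 :=
  comm_p1 StdG24.CoSide.v2_gh (Model.p957.dg.mul_right Model.p957.dh)

theorem p1_r : p1 * (Model.g * Model.f) = (Model.g * Model.f) * p1 :=
  comm_p1 StdG24.CoSide.v2_gf (Model.p957.dg.mul_right Model.p957.df)

theorem z_p1 : p1 * z = z * p1 := by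
  rw [← z_eq]
  exact (((show Commute p1 Model.s from p1_s).mul_right (show Commute p1 Model.t from p1_t)).pow_right 2).eq

/-! ### membership in the extraspecial group -/

open KFacts.Co1.InCo1 (RCo1)
open KFacts.Co1.RHat (Rh sign_mem_Rh)

theorem code_q : GolayBase.isCode 3050016 = true := by decide +kernel
theorem code_s : GolayBase.isCode 5627071 = true := by decide +kernel

theorem check_q : ∀ p : GolayPt, (fold M [15] betaL).getD (GolayBase.idx p) 0 =
    (if Nat.testBit 3050016 (GolayBase.idx p) then -1 else 1) * (8 * 64 ^ GolayBase.idx p) := by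
  (rewrite [Cfsg.Agent.CoOneType.CoW.fold_eq]; decide +kernel)

theorem check_s : ∀ p : GolayPt, (fold M [0] betaL).getD (GolayBase.idx p) 0 =
    (if Nat.testBit 5627071 (GolayBase.idx p) then -1 else 1) * (8 * 64 ^ GolayBase.idx p) := by
  (rewrite [Cfsg.Agent.CoOneType.CoW.fold_eq]; decide +kernel)

theorem permCo0_one : permCo0 1 = 1 := map_one _

theorem eq_q : e 15 = signCo0 (cw 3050016 code_q) := by
  have h := mono_eq hM [15] 3050016 code_q 1 id (fun _ => rfl) check_q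
  rw [List.map_cons, List.map_nil, List.prod_cons, List.prod_nil, mul_one, permCo0_one, mul_one] at h
  exact h

theorem eq_s : e 0 = signCo0 (cw 5627071 code_s) := by
  have h := mono_eq hM [0] 5627071 code_s 1 id (fun _ => rfl) check_s
  rw [List.map_cons, List.map_nil, List.prod_cons, List.prod_nil, mul_one, permCo0_one, mul_one] at h
  exact h

theorem mem_sup_cw {m : ℕ} (h : GolayBase.isCode m = true) (i : GolayPt) :
    i ∈ sup (cw m h) ↔ m.testBit (GolayBase.idx i) = true := by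
  rw [mem_sup]
  show GolayBase.word m i = 1 ↔ _
  rw [GolayBase.word_apply]
  split_ifs with h1
  · simp [h1]
  · simp [h1]

theorem disj_q : Disjoint (sup (cw 3050016 code_q)) (sup c0) := by
  rw [Finset.disjoint_left]
  intro i hi h0
  have h1 := (mem_sup_cw code_q i).1 hi
  have h2 := (mem_sup_cw GenCrit.m0_code i).1 h0
  have h : ∀ i : GolayPt, ¬ (Nat.testBit 3050016 (GolayBase.idx i) = true ∧
      Nat.testBit m0 (GolayBase.idx i) = true) := by decide +kernel
  exact h i ⟨h1, h2⟩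

theorem disj_s : Disjoint (sup (cw 5627071 code_s + allOne)) (sup c0) := by
  rw [Finset.disjoint_left]
  intro i hi h0
  rw [sup_add_allOne, Finset.mem_compl, mem_sup_cw] at hi
  have h2 := (mem_sup_cw GenCrit.m0_code i).1 h0
  have h : ∀ i : GolayPt, ¬ (¬ Nat.testBit 5627071 (GolayBase.idx i) = true ∧
      Nat.testBit m0 (GolayBase.idx i) = true) := by decide +kernel
  exact h i ⟨hi, h2⟩

theorem q_mem : pr (e 15) ∈ RCo1 c0 := ⟨_, sign_mem_Rh disj_q, by rw [eq_q]⟩

theorem s_mem : Model.s ∈ RCo1 c0 := by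
  refine ⟨_, sign_mem_Rh disj_s, ?_⟩
  have h1 : Model.s = pr (signCo0 (cw 5627071 code_s)) := by rw [← eq_s]; rfl
  rw [h1]
  exact ClosingFacts.mk_add_allOne _

theorem s_ne_z : Model.s ≠ z := by
  rw [← z_eq]
  intro h
  have h1 : neB M [0, 0, 1, 0, 1] = true := by (delta Cfsg.Agent.CoOneType.CoEval.neB; rewrite [Cfsg.Agent.CoOneType.CoW.fold_eq]; decide +kernel)
  apply ne_one h1
  have h2 : val [0, 0, 1, 0, 1] = Model.s * val [0, 1, 0, 1] := rfl
  rw [h2, val_z, ← z_eq, ← h]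
  exact Model.v_s2

theorem q_ne_z : pr (e 15) ≠ z := by
  intro h
  have h1 : neB M [15, 0, 1, 0, 1] = true := by (delta Cfsg.Agent.CoOneType.CoEval.neB; rewrite [Cfsg.Agent.CoOneType.CoW.fold_eq]; decide +kernel)
  apply ne_one h1
  have h2 : val [15, 0, 1, 0, 1] = pr (e 15) * val [0, 1, 0, 1] := rfl
  rw [h2, val_z, ← h]
  exact q_sq

theorem s_ne_one : Model.s ≠ 1 := by
  intro h
  exact s_p2 (by rw [h, one_mul, mul_one])

theorem q_ne_one : pr (e 15) ≠ 1 := by
  intro h
  exact q_p1 (by rw [h, one_mul, mul_one])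

theorem finite_co1 : Finite Spor.Co1 := by
  have : Finite Co0 := CoOneType.FrameFix.finite_co0
  infer_instance

/-- the data of `FiveSyl` -/
theorem dat (hC : Nat.card (Subgroup.centralizer ({z} : Set Spor.Co1)) = 89181388800) :
    FiveSyl.Dat (RCo1 c0) (Subgroup.centralizer ({z} : Set Spor.Co1)) z p1 p2 where
  h512 := KFacts.Co1.YBig.card_R wt_c0
  zz := (KFacts.Co1.InCo1.large wt_c0).z_sq
  nor := fun c hc x hx =>
    (KFacts.Co1.InCo1.large wt_c0).conj_mem c (Subgroup.mem_centralizer_singleton_iff.1 hc) x hx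
  zC := fun c hc => Subgroup.mem_centralizer_singleton_iff.1 hc
  zQ := (KFacts.Co1.InCo1.large wt_c0).z_mem
  z1 := (KFacts.Co1.InCo1.large wt_c0).z_ne
  pC := Subgroup.mem_centralizer_singleton_iff.2 z_p1
  qC := Subgroup.mem_centralizer_singleton_iff.2 z_p2
  p5 := pow_five.1
  q5 := pow_five.2
  pq := p1_p2
  ex := ⟨Model.s, s_mem, s_ne_one, s_ne_z, p1_s.symm, s_p2⟩
  ex' := ⟨pr (e 15), q_mem, q_ne_one, q_ne_z, q_p2, q_p1⟩
  idx := hC
  QC := fun q hq => Subgroup.mem_centralizer_singleton_iff.2 ((KFacts.Co1.InCo1.large wt_c0).comm_z q hq)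

/-! ### the fixed ranks -/

instance fact_five : Fact (Nat.Prime 5) := ⟨by norm_num⟩

theorem lift_ne_one : v0 wp1 ≠ 1 ∧ v0 wp2 ≠ 1 := by
  constructor
  · intro h
    have h1 : p1 = 1 := by rw [p1, val_eq, h]; exact map_one _
    exact q_p1 (by rw [h1, one_mul, mul_one])
  · intro h
    have h1 : p2 = 1 := by rw [p2, val_eq, h]; exact map_one _
    exact s_p2 (by rw [h1, one_mul, mul_one])

theorem fr_of {g : Co0} (h5 : orderOf g = 5) (htr : Cfsg.Agent.Co2Type.Mono.tr8 g = -48) :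
    LThreeMB.fr (QuotientGroup.mk g : Spor.Co1) = 1 := by
  rcases CoFive.Class.main h5 with h | h | h
  · have h1 := CoFive.Dims.tr8_isConj h
    rw [htr, CoFive.Dims.tr8_r8] at h1
    norm_num at h1
  · have h1 := CoFive.Dims.tr8_isConj h
    rw [htr, CoFive.Dims.tr8_r4] at h1
    norm_num at h1
  · rw [CoFive.Ranks.fr_of_isConj (CoFive.Ranks.isConj_mk h), CoFive.Ranks.fr_r0]

theorem fr_p1 : LThreeMB.fr p1 = 1 := by
  have h : p1 = QuotientGroup.mk (v0 wp1) := val_eq wp1
  rw [h]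
  apply fr_of (orderOf_eq_prime lift_five.1 lift_ne_one.1)
  rw [PreUniqCo.TrWord.tr8_word hM]
  exact k_tr.1

theorem fr_p2 : LThreeMB.fr p2 = 1 := by
  have h : p2 = QuotientGroup.mk (v0 wp2) := val_eq wp2
  rw [h]
  apply fr_of (orderOf_eq_prime lift_five.2 lift_ne_one.2)
  rw [PreUniqCo.TrWord.tr8_word hM]
  exact k_tr.2

theorem order_p1 : orderOf p1 = 5 := orderOf_eq_prime pow_five.1 fun h => q_p1 (by rw [h, one_mul, mul_one])
theorem order_p2 : orderOf p2 = 5 := orderOf_eq_prime pow_five.2 fun h => s_p2 (by rw [h, one_mul, mul_one])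

/-- every element of order five of `C(z)` with `|C_Q(b)| = 32` is conjugate to `p1` -/
theorem isConj_p1 (hC : Nat.card (Subgroup.centralizer ({z} : Set Spor.Co1)) = 89181388800) {b : Spor.Co1}
    (hb : orderOf b = 5) (hbz : b * z = z * b)
    (h32 : Nat.card ↥(RCo1 c0 ⊓ Subgroup.centralizer ({b} : Set Spor.Co1)) = 32) : IsConj b p1 := by
  have := finite_co1
  obtain ⟨c, -, i, hi, h⟩ := (dat hC).main hb (Subgroup.mem_centralizer_singleton_iff.2 hbz) h32
  have h1 : IsConj b (c * b * c⁻¹) := isConj_iff.2 ⟨c, rfl⟩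
  apply CoFive.Ranks.isConj_of_fr hb order_p1
  rw [CoFive.Ranks.fr_of_isConj h1, fr_p1]
  rcases h with h | h
  · rw [h, CoFive.Ranks.fr_of_isConj (CoFive.Ranks.isConj_pow_co1 order_p1 hi), fr_p1]
  · rw [h, CoFive.Ranks.fr_of_isConj (CoFive.Ranks.isConj_pow_co1 order_p2 hi), fr_p2]

end Cfsg.Agent.H812.CoFiveData
end

private theorem dce_d051c25099da : _root_.True := by
  try have : _root_.True := by simp only [_root_.Cfsg.Agent.H812.FiveSyl.Dat.E.eq_1]
  try have : _root_.True := by simp only [_root_.Cfsg.Agent.H812.CoFiveData.p1.eq_1]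
  try have : _root_.True := by simp only [_root_.Cfsg.Agent.H812.CoFiveData.p2.eq_1]
  exact _root_.True.intro
end

-- part: H6/ORE/CoOne
section
prune_inst 0x400000000000001800000000000000000002004000002000000000000441200400010040001000000040000a800000000000020800002a008a0000000000040020c000001000000000004001100000000000000000000000000000000000000000000
set_option linter.all false
open scoped Cfsg.Agent.FastGrp

/-!
# Commutators of `Co1` with an element without fixed points on `Λ/2Λ` (helper6, S2443)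

`z` an octad involution of `Co1`, `C(z) = 2^(1+8).Ω⁺(8,2)`.  Assume that every nontrivial element of `Ω⁺(8,2)` is
a commutator of two generators (`OreO8`).

* `in_cent` : every `x ≠ 1` of `C(z)` is `[a, b]` such that `⟨a, b⟩` contains an element of order five without
  fixed points on `Λ/2Λ`;
* `two_co1` : the same for all 2-elements `x ≠ 1` of `Co1`.
-/

set_option autoImplicit false

namespace Cfsg.Agent.H6.ORE.CoOne

open Cfsg Cfsg.Agent.H6.ORE Cfsg.Agent.CoOneNWC.OmFacts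
open Cfsg.Agent.KFacts.Co1.InCo1 (RCo1)
open Cfsg.Agent.CoOneType.GenCrit (c0 m0)
open Cfsg.Agent.H812.CoFiveData (z p1 p2 wt_c0)
open Cfsg.Agent.StdG24.ExCent (wt_oM)
open Cfsg.Agent.MonsterU.Lam2 (L2)
open Cfsg.Agent.LThreeMB (fr)

/-- every nontrivial element of `Ω⁺(8,2)` is a commutator of two generators -/
def OreO8 : Prop := ∀ l : Om8, l ≠ 1 → ∃ a b : Om8, a * b * a⁻¹ * b⁻¹ = l ∧ Subgroup.closure ({a, b} : Set Om8) = ⊤

/-- `Q` for the involution of `ExInst` -/
abbrev QM : Subgroup Spor.Co1 := StdG24.ExInst.Q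

/-- the involution of `ExInst` -/
noncomputable abbrev zM : Spor.Co1 := StdG24.ExInst.z

theorem fin : Finite Spor.Co1 := H812.CoFiveData.finite_co1

theorem isConj_z : IsConj z zM := by
  rw [show zM = _ from StdG24.ExCent.z_eq]
  exact CoOneType.ClosingFacts.isConj_octad wt_c0 wt_oM

/-- conjugation carries `RCo1 c0` to `QM` -/
theorem mem_iff {g : Spor.Co1} (hg : g * z * g⁻¹ = zM) (x : Spor.Co1) :
    g * x * g⁻¹ ∈ QM ↔ x ∈ RCo1 c0 := by
  have hfin := fin
  have hL := KFacts.Co1.InCo1.large wt_c0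
  have hM := H813.CoLarge.large
  let W : Subgroup Spor.Co1 := QM.comap (MulAut.conj g).toMonoidHom
  have hWm : ∀ y, y ∈ W ↔ g * y * g⁻¹ ∈ QM := fun y => Iff.rfl
  have hg' : ∀ u, u * z = z * u → (g * u * g⁻¹) * zM = zM * (g * u * g⁻¹) := by
    intro u hu
    rw [← hg]
    calc g * u * g⁻¹ * (g * z * g⁻¹) = g * (u * z) * g⁻¹ := by group
      _ = g * (z * u) * g⁻¹ := by rw [hu]
      _ = g * z * g⁻¹ * (g * u * g⁻¹) := by group
  have hle : W ≤ RCo1 c0 := by
    apply KFacts.LargeO2.le_of_normal hL (KFacts.Co1.InCo1.irr wt_c0) (KFacts.Co1.InCo1.exists_in wt_c0)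
    · have : IsPGroup 2 QM := Cfsg.Agent.LargeExtra.Base.isPGroup hM
      exact this.comap_of_injective _ (MulAut.conj g).injective
    · intro w hw
      have h1 : (g * w * g⁻¹) * zM = zM * (g * w * g⁻¹) := hM.comm_z _ ((hWm w).1 hw)
      rw [← hg] at h1
      have h2 : g * (w * z) * g⁻¹ = g * (z * w) * g⁻¹ := by
        calc g * (w * z) * g⁻¹ = g * w * g⁻¹ * (g * z * g⁻¹) := by group
          _ = (g * z * g⁻¹) * (g * w * g⁻¹) := h1
          _ = g * (z * w) * g⁻¹ := by group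
      exact mul_left_cancel (mul_right_cancel h2)
    · intro u hu w hw
      rw [hWm] at hw ⊢
      have h1 := hM.conj_mem _ (hg' u hu) _ hw
      rwa [show g * u * g⁻¹ * (g * w * g⁻¹) * (g * u * g⁻¹)⁻¹ = g * (u * w * u⁻¹) * g⁻¹ by group] at h1
  have hcard : Nat.card W = 512 := by
    have h1 : W.map (MulAut.conj g).toMonoidHom = QM := by
      apply Subgroup.map_comap_eq_self_of_surjective
      exact (MulAut.conj g).surjective
    have h2 : Nat.card (W.map (MulAut.conj g).toMonoidHom) = Nat.card W :=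
      Subgroup.card_map_of_injective (MulAut.conj g).injective
    rw [← h2, h1, show Nat.card QM = 2 ^ 9 from H813.CoLarge.card_Q']
    norm_num
  have hW : W = RCo1 c0 := Subgroup.eq_of_le_of_card_ge hle
    (by rw [hcard, KFacts.Co1.YBig.card_R wt_c0])
  rw [← hWm, hW]

/-- **`C(z) → Ω⁺(8,2)`** -/
theorem exists_pi : ∃ π : CZ z →* Om8, Function.Surjective π ∧ π.ker = (RCo1 c0).subgroupOf (CZ z) := by
  have hfin := fin
  obtain ⟨g, hg⟩ := isConj_iff.1 isConj_z
  obtain ⟨L, hL⟩ := H813.CoLarge.exists_L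
  have hn := H813.CoLarge.normal
  obtain ⟨e⟩ := H813.OmegaCent.nonempty_equiv H813.CoLarge.large L hL H813.CoLarge.perfect H813.CoLarge.card_Q'
    H813.CoLarge.card_le
  let πM : CZ zM →* Om8 := e.toMonoidHom.comp (QuotientGroup.mk' (QM.subgroupOf (CZ zM)))
  have hs : Function.Surjective πM := e.surjective.comp (QuotientGroup.mk'_surjective _)
  have hk : ∀ c : CZ zM, πM c = 1 ↔ (c : Spor.Co1) ∈ QM := by
    intro c
    have h1 : πM c = e (QuotientGroup.mk c) := rfl
    rw [h1, map_eq_one_iff _ e.injective, QuotientGroup.eq_one_iff]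
    exact Subgroup.mem_subgroupOf
  have hmem : ∀ u : Spor.Co1, u * z = z * u → (g * u * g⁻¹) * zM = zM * (g * u * g⁻¹) := by
    intro u hu
    rw [← hg]
    calc g * u * g⁻¹ * (g * z * g⁻¹) = g * (u * z) * g⁻¹ := by group
      _ = g * (z * u) * g⁻¹ := by rw [hu]
      _ = g * z * g⁻¹ * (g * u * g⁻¹) := by group
  let κ : CZ z →* CZ zM := ((MulAut.conj g).toMonoidHom.comp (CZ z).subtype).codRestrict (CZ zM) (fun c =>
    Subgroup.mem_centralizer_singleton_iff.2 (hmem c (Subgroup.mem_centralizer_singleton_iff.1 c.2)))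
  have hκ : ∀ c : CZ z, (κ c : Spor.Co1) = g * c * g⁻¹ := fun _ => rfl
  have hκs : Function.Surjective κ := by
    rintro ⟨d, hd0⟩
    have hd : d * zM = zM * d := Subgroup.mem_centralizer_singleton_iff.1 hd0
    have h1 : (g⁻¹ * d * g) * z = z * (g⁻¹ * d * g) := by
      rw [← hg] at hd
      calc (g⁻¹ * d * g) * z = g⁻¹ * (d * (g * z * g⁻¹)) * g := by group
        _ = g⁻¹ * ((g * z * g⁻¹) * d) * g := by rw [hd]
        _ = z * (g⁻¹ * d * g) := by group
    refine ⟨⟨g⁻¹ * d * g, Subgroup.mem_centralizer_singleton_iff.2 h1⟩, Subtype.ext ?_⟩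
    rw [hκ]
    show g * (g⁻¹ * d * g) * g⁻¹ = d
    group
  refine ⟨πM.comp κ, hs.comp hκs, ?_⟩
  ext c
  rw [MonoidHom.mem_ker, Subgroup.mem_subgroupOf, ← mem_iff hg c, ← hκ, ← hk]
  rfl

/-- the order of the centralizer -/
theorem card_cent : Nat.card (CZ z) = 89181388800 := by
  have hfin := fin
  obtain ⟨π, hπ, hk⟩ := exists_pi
  have h1 := Subgroup.card_eq_card_quotient_mul_card_subgroup π.ker
  have h2 : Nat.card (CZ z ⧸ π.ker) = Nat.card Om8 :=
    Nat.card_congr (QuotientGroup.quotientKerEquivOfSurjective π hπ).toEquiv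
  have h3 : Nat.card π.ker = 512 := by
    rw [hk]
    have hle : RCo1 c0 ≤ CZ z := fun y hy =>
      Subgroup.mem_centralizer_singleton_iff.2 ((KFacts.Co1.InCo1.large wt_c0).comm_z y hy)
    rw [Nat.card_congr (Subgroup.subgroupOfEquivOfLe hle).toEquiv]
    exact KFacts.Co1.YBig.card_R wt_c0
  rw [h1, h2, h3, card_om8]

theorem fix_of_fr {y : Spor.Co1} (h : fr y = 1) (v : L2) (hv : y • v = v) : v = 0 := by
  have h1 : Nat.card {v : L2 // y • v = v} = 1 := h
  rw [Nat.card_eq_one_iff_unique] at h1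
  have h2 := h1.1.elim ⟨v, hv⟩ ⟨0, smul_zero y⟩
  exact congrArg Subtype.val h2

/-- `p1` has no fixed point on `Λ/2Λ` -/
theorem fix_p1 (v : L2) (hv : p1 • v = v) : v = 0 := fix_of_fr H812.CoFiveData.fr_p1 v hv

/-- **the elements of `C(z)`** -/
theorem in_cent (hO : OreO8) {x : Spor.Co1} (hx : x * z = z * x) (hx1 : x ≠ 1) :
    ∃ a b : Spor.Co1, x = a * b * a⁻¹ * b⁻¹ ∧ ∃ y ∈ Subgroup.closure ({a, b} : Set Spor.Co1), IsConj y p1 := by
  have hfin := fin
  have hL := KFacts.Co1.InCo1.large wt_c0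
  have hD := H812.CoFiveData.dat card_cent
  have h5 : ¬ 5 ∣ Nat.card (RCo1 c0) := by
    rw [KFacts.Co1.YBig.card_R wt_c0]; norm_num
  obtain ⟨s, hs, hs1, hsz, hsp, hsq⟩ := hD.ex
  by_cases hxQ : x ∈ RCo1 c0
  · by_cases hxz : x = z
    · rw [hxz]
      exact main_z hL H812.CoFiveData.z_p1 H812.CoFiveData.pow_five.1 hs hs1 hsz hsp.symm
    · exact main_in hL (r := 5) (by norm_num) h5 H812.CoFiveData.z_p1 H812.CoFiveData.z_p2
        H812.CoFiveData.order_p1 H812.CoFiveData.p1_p2 (fun y hy h1 h2 => hD.inter hy (hD.swap.comm_of h1) (hD.comm_of h2))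
        hxQ hx1 hxz
  · obtain ⟨π, hπ, hk⟩ := exists_pi
    exact main_out hL (KFacts.Co1.InCo1.irr wt_c0) π hπ hk hO (r := 5) (by norm_num) h5 H812.CoFiveData.z_p1
      H812.CoFiveData.order_p1 hx hxQ

/-- the property is invariant under conjugation -/
theorem conj_aux {x : Spor.Co1} (g : Spor.Co1) (h : ∃ a b : Spor.Co1, x = a * b * a⁻¹ * b⁻¹ ∧
      ∃ y ∈ Subgroup.closure ({a, b} : Set Spor.Co1), ∀ v : L2, y • v = v → v = 0) :
    ∃ a b : Spor.Co1, g * x * g⁻¹ = a * b * a⁻¹ * b⁻¹ ∧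
      ∃ y ∈ Subgroup.closure ({a, b} : Set Spor.Co1), ∀ v : L2, y • v = v → v = 0 := by
  obtain ⟨a, b, e, y, hy, hf⟩ := h
  refine ⟨g * a * g⁻¹, g * b * g⁻¹, by rw [e]; group, g * y * g⁻¹, ?_, ?_⟩
  · have h1 : (MulAut.conj g).toMonoidHom y ∈ (Subgroup.closure ({a, b} : Set Spor.Co1)).map
        (MulAut.conj g).toMonoidHom := ⟨y, hy, rfl⟩
    rw [MonoidHom.map_closure, Set.image_pair] at h1
    exact h1
  · intro v hv
    have h1 : y • (g⁻¹ • v) = g⁻¹ • v := by
      calc y • (g⁻¹ • v) = g⁻¹ • ((g * y * g⁻¹) • v) := by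
            rw [smul_smul, smul_smul]; congr 1; group
        _ = g⁻¹ • v := by rw [hv]
    have h2 := hf _ h1
    have h3 : v = g • (g⁻¹ • v) := by rw [smul_inv_smul]
    rw [h3, h2, smul_zero]

/-- elements commuting with a conjugate of `z` -/
theorem of_comm (hO : OreO8) {x w : Spor.Co1} (hw : IsConj z w) (hx : x * w = w * x) (hx1 : x ≠ 1) :
    ∃ a b : Spor.Co1, x = a * b * a⁻¹ * b⁻¹ ∧
      ∃ y ∈ Subgroup.closure ({a, b} : Set Spor.Co1), ∀ v : L2, y • v = v → v = 0 := by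
  obtain ⟨g, hg⟩ := isConj_iff.1 hw
  have h1 : (g⁻¹ * x * g) * z = z * (g⁻¹ * x * g) := by
    rw [← hg] at hx
    calc (g⁻¹ * x * g) * z = g⁻¹ * (x * (g * z * g⁻¹)) * g := by group
      _ = g⁻¹ * ((g * z * g⁻¹) * x) * g := by rw [hx]
      _ = z * (g⁻¹ * x * g) := by group
  have h2 : g⁻¹ * x * g ≠ 1 := by
    intro h
    apply hx1
    calc x = g * (g⁻¹ * x * g) * g⁻¹ := by group
      _ = 1 := by rw [h]; group
  obtain ⟨a, b, e, y, hy, hc⟩ := in_cent hO h1 h2
  have h3 : fr y = 1 := by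
    rw [CoFive.Ranks.fr_of_isConj hc]; exact H812.CoFiveData.fr_p1
  have h4 := conj_aux g ⟨a, b, e, y, hy, fix_of_fr h3⟩
  rwa [show g * (g⁻¹ * x * g) * g⁻¹ = x by group] at h4

/-- **the 2-elements of `Co1`** -/
theorem two_co1 (hO : OreO8) (x : Spor.Co1) (hx1 : x ≠ 1) (h2 : ∃ k : ℕ, orderOf x = 2 ^ k) :
    ∃ a b : Spor.Co1, x = a * b * a⁻¹ * b⁻¹ ∧
      ∃ y ∈ Subgroup.closure ({a, b} : Set Spor.Co1), ∀ v : L2, y • v = v → v = 0 := by
  have hfin := fin
  have hodd : Odd (CZ z).index := KFacts.Co1.InCo1.odd_index wt_c0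
  obtain ⟨g, hg⟩ := exists_conj_mem hodd h2
  have hg' := Subgroup.mem_centralizer_singleton_iff.1 hg
  have h1 : g * x * g⁻¹ ≠ 1 := by
    intro h
    apply hx1
    calc x = g⁻¹ * (g * x * g⁻¹) * g := by group
      _ = 1 := by rw [h]; group
  have h3 := conj_aux g⁻¹ (of_comm hO (IsConj.refl z) hg' h1)
  rwa [show g⁻¹ * (g * x * g⁻¹) * g⁻¹⁻¹ = x by group] at h3

end Cfsg.Agent.H6.ORE.CoOne
end
end
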